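import Cfsg.Agent.Lib.MaxSub.ResThree.Tv.Recog
import Cfsg.Agent.Lib.MaxSub.ResThree.Tv.Small.Main
import Cfsg.Agent.Lib.MaxSub.ResThree.Dihedral.Fields

/-!
Primitive perfect subgroups of `GL₃` containing a transvection.
-/

set_option autoImplicit false
set_option linter.unusedSectionVars false
set_option linter.style.haveILetI false

namespace CfsgLib.ResThree

open Matrix CfsgLib.ResThree.Tv

variable {F : Type*} [Field F] [Fintype F]
variable {P : Subgroup (Matrix.GeneralLinearGroup (Fin 3) F)}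

/-- The root groups are scaled copies of a field, or the Sylow two-subgroups are dihedral. -/
theorem rootField_or_dihedral (hP : Core P) (ht : HasTransvection P) :
    DihedralSylow P ∨ ∃ (K : Subfield F) (x φ : Fin 3 → F), RootField P K ∧ Root P x φ := by
  classical
  obtain ⟨g, hg, c₀, φ₀, hc, hφ, -, e⟩ := ht
  have h₀ : Root P c₀ φ₀ := ⟨hc, hφ, g, hg, e⟩
  obtain ⟨p, hchar⟩ := CharP.exists F
  haveI : Fact p.Prime := ⟨CharP.char_is_prime F p⟩
  by_cases hQ : 3 ≤ Nat.card (rootSet P c₀ φ₀)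
  · obtain ⟨K, h3, hr, hp⟩ := exists_root_field p hP h₀ hQ
    exact Or.inr ⟨K, c₀, φ₀, ⟨h3, hr, hp⟩, h₀⟩
  · have h2p := le_card_rootSet p hP h₀
    obtain rfl : p = 2 := by have := (Fact.out : p.Prime).two_le; omega
    have h2 : (2 : F) = 0 := by exact_mod_cast CharP.cast_eq_zero F 2
    refine Or.inl (dihedralSylow_of_tiny hP (tiny_of_core hP h2 h₀ fun c φ hr t ht' => ?_))
    by_contra hne
    push Not at hne
    have hcard := card_root_eq 2 hP hr h₀
    have h1 : Mem P ((1 : F) • c) φ := by rw [one_smul]; exact hr.2.2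
    have hinj : Function.Injective (![⟨0, zero_mem_rootSet c φ⟩, ⟨1, h1⟩, ⟨t, ht'⟩] :
        Fin 3 → rootSet P c φ) := by
      intro i j hij
      have := congrArg Subtype.val hij
      fin_cases i <;> fin_cases j <;> simp [hne.1, hne.1.symm, hne.2, hne.2.symm] at this ⊢
    have := Nat.card_le_card_of_injective _ hinj
    simp at this
    simp at hcard hQ
    omega

/-- A primitive group with a transvection. -/
theorem transvection_case (hP : Core P) (hprim : Primitive P) (ht : HasTransvection P) :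
    Cfsg.Geo.specialLinear (Fin 3) F ≤ P ∨ FixesUnitary P ∨ DihedralSylow P := by
  rcases rootField_or_dihedral hP ht with h | ⟨K, x, φ, hK, hx⟩
  · exact Or.inr (Or.inr h)
  by_cases hL : OneAxis P
  · exact Or.inr (Or.inl (caseU hP hprim hK hL hx).2)
  · unfold OneAxis at hL
    push Not at hL
    obtain ⟨y, ψ, ψ', hy, hy', hne⟩ := hL
    exact Or.inl (caseL hP hprim hK.roots hK.prods hy hy'
      ((LinearIndependent.pair_iff' hy.2.1).2 fun k hk => hne k hk.symm))

/-- A centre in a unitary group carries one axis. -/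
theorem oneAxis_of_gu {q : ℕ} (hF : Fintype.card F = q ^ 2) (hP : Core P) (hU : P ≤ Cfsg.GU 3 F q) : OneAxis P := by
  intro x φ φ' h h'
  by_cases h0 : φ' = 0
  · exact ⟨0, by rw [h0, zero_smul]⟩
  obtain ⟨-, μ, hμ0, -, hlin⟩ := axis_of_gu hF hP hU h
  obtain ⟨-, μ', -, -, hlin'⟩ := axis_of_gu hF hP hU (w := x) (χ := φ') ⟨h.1, h0, h'⟩
  refine ⟨μ' / μ, dotProduct_eq _ _ fun u => ?_⟩
  rw [smul_dotProduct, hlin, hlin', smul_eq_mul, ← mul_assoc, div_mul_cancel₀ _ hμ0]

/-- A primitive unitary group with a transvection. -/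
theorem transvection_unitary {q : ℕ} (hF : Fintype.card F = q ^ 2) (hq : 3 ≤ q) (hP : Core P) (hprim : Primitive P)
    (hU : P ≤ Cfsg.GU 3 F q) (ht : HasTransvection P) :
    Cfsg.GU 3 F q ⊓ Cfsg.Geo.specialLinear (Fin 3) F ≤ P ∨ DihedralSylow P := by
  rcases rootField_or_dihedral hP ht with h | ⟨K, x, φ, hK, hx⟩
  · exact Or.inr h
  have hL := oneAxis_of_gu hF hP hU
  exact Or.inl (unitary_full hF hq hP hU hK hL (hF ▸ (caseU hP hprim hK hL hx).1) hx)

end CfsgLib.ResThree
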