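import Cfsg.Agent.Lib.MaxSub.ResThree.Tv.Roots
import Cfsg.Agent.Lib.StSL.Presentation

/-!
Two axes at one centre: the group is the special linear group.
-/

set_option autoImplicit false
set_option linter.unusedSectionVars false
set_option maxHeartbeats 2000000

namespace CfsgLib.ResThree.Tv

open Matrix

variable {F : Type*} [Field F]
variable {P : Subgroup (Matrix.GeneralLinearGroup (Fin 3) F)}

local notation "G3" => Matrix.GeneralLinearGroup (Fin 3) F
local notation "V" => Fin 3 → F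
local notation "M3" => Matrix (Fin 3) (Fin 3) F

/-- The coordinates of a matrix in a basis with dual functionals. -/
def coords (e d : Fin 3 → Fin 3 → F) (g : Matrix (Fin 3) (Fin 3) F) : Matrix (Fin 3) (Fin 3) F :=
  Matrix.of d * g * (Matrix.of e)ᵀ

theorem coords_apply (e d : Fin 3 → Fin 3 → F) (g : Matrix (Fin 3) (Fin 3) F) (i j : Fin 3) :
    coords e d g i j = d i ⬝ᵥ (g *ᵥ e j) := by
  rw [coords, Matrix.mul_assoc]
  rfl

theorem dual_mul {e d : Fin 3 → Fin 3 → F} (h : ∀ i j, d i ⬝ᵥ e j = if i = j then 1 else 0) :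
    (Matrix.of e)ᵀ * Matrix.of d = 1 := by
  refine mul_eq_one_comm.1 ?_
  ext i j
  rw [Matrix.one_apply, ← h i j]
  rfl

/-- Members with coordinates in a subfield. -/
def ratPart (e d : Fin 3 → Fin 3 → F) (K : Subfield F) (g : Matrix (Fin 3) (Fin 3) F) : Prop :=
  ∀ i j, coords e d g i j ∈ K

theorem ratPart_one {e d : Fin 3 → Fin 3 → F} (h : ∀ i j, d i ⬝ᵥ e j = if i = j then 1 else 0)
    (K : Subfield F) : ratPart e d K 1 := by
  intro i j
  rw [coords_apply, one_mulVec, h]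
  split
  · exact K.one_mem
  · exact K.zero_mem

theorem ratPart_mul {e d : Fin 3 → Fin 3 → F} (h : ∀ i j, d i ⬝ᵥ e j = if i = j then 1 else 0)
    {K : Subfield F} {g g' : Matrix (Fin 3) (Fin 3) F} (hg : ratPart e d K g) (hg' : ratPart e d K g') :
    ratPart e d K (g * g') := by
  intro i j
  have he : coords e d (g * g') = coords e d g * coords e d g' := by
    simp only [coords, Matrix.mul_assoc]
    rw [← Matrix.mul_assoc (Matrix.of e)ᵀ (Matrix.of d), dual_mul h, Matrix.one_mul]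
  rw [he, Matrix.mul_apply]
  exact sum_mem fun k _ => K.mul_mem (hg i k) (hg' k j)

/-- The members with coordinates in a subfield form a subgroup. -/
def ratGroup [Finite F] {e d : Fin 3 → Fin 3 → F}
    (h : ∀ i j, d i ⬝ᵥ e j = if i = j then 1 else 0) (K : Subfield F) :
    Subgroup (Matrix.GeneralLinearGroup (Fin 3) F) where
  carrier := {g | ratPart e d K g.1}
  one_mem' := ratPart_one h K
  mul_mem' := fun hg hg' => ratPart_mul h hg hg'
  inv_mem' := fun {g} hg => by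
    classical
    show ratPart e d K (g⁻¹ : G3).1
    have hN : g⁻¹ = g ^ (orderOf g - 1) := by
      have ho := orderOf_pos g
      refine inv_eq_of_mul_eq_one_right ?_
      rw [← pow_succ', Nat.sub_add_cancel ho, pow_orderOf_eq_one]
    rw [hN, Units.val_pow_eq_pow_val]
    induction orderOf g - 1 with
    | zero => rw [pow_zero]; exact ratPart_one h K
    | succ n ih => rw [pow_succ]; exact ratPart_mul h ih hg

theorem vmv_rat {e d : Fin 3 → Fin 3 → F} (h : ∀ i j, d i ⬝ᵥ e j = if i = j then 1 else 0)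
    {K : Subfield F} {w χ : Fin 3 → F} (hw : ∀ i j, d i ⬝ᵥ w * χ ⬝ᵥ e j ∈ K) :
    ratPart e d K (1 + vecMulVec w χ) := by
  intro i j
  rw [coords_apply, one_add_mulVec, dotProduct_add, h, dotProduct_smul, smul_eq_mul, mul_comm]
  refine K.add_mem ?_ (hw i j)
  split
  · exact K.one_mem
  · exact K.zero_mem

/-- Two axes at one centre. -/
theorem caseL [Fintype F] (hP : Core P) (hprim : Primitive P) {K : Subfield F}
    (hroot : ∀ c φ : Fin 3 → F, Root P c φ → rootSet P c φ = K)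
    (hN : ∀ c φ y ψ : Fin 3 → F, Mem P c φ → Mem P y ψ → φ ⬝ᵥ y * ψ ⬝ᵥ c ∈ K)
    {x φ1 φ2 : Fin 3 → F} (h1 : Root P x φ1) (h2 : Mem P x φ2) (hind : LinearIndependent F ![φ1, φ2]) :
    Cfsg.Geo.specialLinear (Fin 3) F ≤ P := by
  classical
  have hsmul : ∀ {c φ : Fin 3 → F}, Mem P c φ → ∀ {k : F}, k ∈ K → Mem P (k • c) φ := by
    intro c φ hm k hk
    by_cases hc : c = 0
    · rw [hc, smul_zero]; exact mem_zero φ
    by_cases hφ : φ = 0
    · rw [hφ]; exact mem_zero_axis _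
    have : k ∈ rootSet P c φ := by rw [hroot c φ ⟨hc, hφ, hm⟩]; exact hk
    exact this
  obtain ⟨y, ψ, hy, -, h3, h4⟩ := exists_opposite hP h1 h1
  have d1 := h1.2.2.dot hP
  have d2 := hy.2.2.dot hP
  have d3 := h2.dot hP
  -- the second axis through the opposite centre
  have hu := hN x φ1 y ψ h1.2.2 hy.2.2
  have hk : φ2 ⬝ᵥ y / φ1 ⬝ᵥ y ∈ K := by
    have := K.div_mem (hN x φ2 y ψ h2 hy.2.2) hu
    rwa [mul_div_mul_right _ _ h4] at this
  obtain ⟨φ', hφ'm, hφ'y, hφ'x, hφ'0⟩ : ∃ φ' : Fin 3 → F,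
      Mem P x φ' ∧ φ' ⬝ᵥ y = 0 ∧ φ' ⬝ᵥ x = 0 ∧ φ' ≠ 0 := by
    refine ⟨φ2 + (-(φ2 ⬝ᵥ y / φ1 ⬝ᵥ y)) • φ1,
      h2.add_axis hP ((mem_smul_iff _).1 (hsmul h1.2.2 (K.neg_mem hk))), ?_, ?_, fun e => ?_⟩
    · rw [add_dotProduct, smul_dotProduct, smul_eq_mul, neg_mul, div_mul_cancel₀ _ h3, add_neg_cancel]
    · rw [add_dotProduct, smul_dotProduct, d1, d3, smul_zero, add_zero]
    · have := (LinearIndependent.pair_iff.1 hind (-(φ2 ⬝ᵥ y / φ1 ⬝ᵥ y)) 1 (by
        rw [one_smul, add_comm]; exact e)).2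
      exact one_ne_zero this
  obtain ⟨n, hn, n1, n2, hdec⟩ := pair_frame d1 d2 h3 h4
  have hn0 : φ' ⬝ᵥ n ≠ 0 := by
    intro e
    refine hφ'0 (dotProduct_eq_zero _ fun v => ?_)
    obtain ⟨r, hr⟩ := hdec v
    rw [hr]
    simp [dotProduct_add, dotProduct_smul, hφ'x, hφ'y, e]
  let e : Fin 3 → Fin 3 → F := ![x, (φ1 ⬝ᵥ y)⁻¹ • y, (φ' ⬝ᵥ n)⁻¹ • n]
  let d : Fin 3 → Fin 3 → F := ![(ψ ⬝ᵥ x)⁻¹ • ψ, φ1, φ']
  have hdual : ∀ i j, d i ⬝ᵥ e j = if i = j then 1 else 0 := by
    intro i j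
    fin_cases i <;> fin_cases j <;>
      simp [e, d, smul_dotProduct, dotProduct_smul, d1, d2, hφ'x, hφ'y, n1, n2, h3, h4, hn0]
  -- the basic transvections
  have m01 : Mem P (e 0) (d 1) := h1.2.2
  have m10 : Mem P (e 1) (d 0) := by
    show Mem P ((φ1 ⬝ᵥ y)⁻¹ • y) ((ψ ⬝ᵥ x)⁻¹ • ψ)
    rw [← mem_smul_iff, smul_smul, ← _root_.mul_inv_rev]
    exact hsmul hy.2.2 (K.inv_mem hu)
  have m02 : Mem P (e 0) (d 2) := hφ'm
  have m12 : Mem P (e 1) (d 2) := by
    have := m10.conj hP m02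
    rw [hdual, hdual, if_pos rfl, if_neg (by decide), one_smul, zero_smul, sub_zero] at this
    have h' := (m02.neg hP).add_centre hP this
    rwa [neg_add_cancel_left] at h'
  have mdiag : ∀ {k : F}, k ∈ K → Mem P (e 0 + k • e 1) (d 1 + (-k) • d 0) := by
    intro k hk
    have := (hsmul m10 hk).conj hP m01
    rwa [hdual, if_pos rfl, one_smul, dotProduct_smul, hdual, if_pos rfl, smul_eq_mul, mul_one,
      sub_eq_add_neg, ← neg_smul] at this
  have hexp : ∀ w : Fin 3 → F, w = (d 0 ⬝ᵥ w) • e 0 + (d 1 ⬝ᵥ w) • e 1 + (d 2 ⬝ᵥ w) • e 2 := by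
    intro w
    conv_lhs => rw [← one_mulVec w, ← dual_mul hdual, ← mulVec_mulVec]
    ext k
    simp [Matrix.mulVec, dotProduct, Fin.sum_univ_three]
    ring
  have hdotexp : ∀ χ w : Fin 3 → F, χ ⬝ᵥ w =
      (d 0 ⬝ᵥ w) * χ ⬝ᵥ e 0 + (d 1 ⬝ᵥ w) * χ ⬝ᵥ e 1 + (d 2 ⬝ᵥ w) * χ ⬝ᵥ e 2 := by
    intro χ w
    conv_lhs => rw [hexp w]
    simp [dotProduct_add, dotProduct_smul]
  -- transvections with centre off the plane
  have off : ∀ w χ : Fin 3 → F, Mem P w χ → χ ≠ 0 → d 2 ⬝ᵥ w ≠ 0 →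
      (χ ⬝ᵥ e 0 ≠ 0 ∨ χ ⬝ᵥ e 1 ≠ 0) ∧ ∀ i j, d i ⬝ᵥ w * χ ⬝ᵥ e j ∈ K := by
    intro w χ hw hχ hw2
    set w0 := d 0 ⬝ᵥ w
    set w1 := d 1 ⬝ᵥ w
    set w2 := d 2 ⬝ᵥ w
    set a := χ ⬝ᵥ e 0
    set b := χ ⬝ᵥ e 1
    set c2 := χ ⬝ᵥ e 2
    have ha : w2 * a ∈ K := hN _ _ _ _ m02 hw
    have hb : w2 * b ∈ K := hN _ _ _ _ m12 hw
    have h10 : w1 * a ∈ K := hN _ _ _ _ m01 hw
    have h01 : w0 * b ∈ K := hN _ _ _ _ m10 hw
    have hk1 : (w1 - w0) * (a + b) ∈ K := by
      have := hN _ _ _ _ (mdiag K.one_mem) hw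
      rw [add_dotProduct, smul_dotProduct, dotProduct_add, one_smul, smul_eq_mul] at this
      convert this using 1
      ring
    have hsum : w0 * a + w1 * b + w2 * c2 = 0 := (hdotexp χ w).symm.trans (hw.dot hP)
    have hne : a ≠ 0 ∨ b ≠ 0 := by
      by_contra h
      push Not at h
      refine hχ (dotProduct_eq_zero _ fun v => ?_)
      have hc2 : c2 = 0 := by
        rw [h.1, h.2, mul_zero, mul_zero, zero_add, zero_add] at hsum
        exact (mul_eq_zero.1 hsum).resolve_left hw2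
      rw [hdotexp χ v]
      show _ * a + _ * b + _ * c2 = 0
      rw [h.1, h.2, hc2]; ring
    have hr : ∀ {u : F}, u * w2 ∈ K → u * w2 / w2 * 1 = u := fun {u} _ => by
      rw [mul_one, mul_div_cancel_right₀ _ hw2]
    -- the normalised coordinates
    have q0 : w0 / w2 ∈ K := by
      by_cases hb0 : b = 0
      · have ha0 := hne.resolve_right (fun h => h hb0)
        have e1 := K.sub_mem (K.div_mem h10 ha) (K.div_mem (by simpa [hb0] using hk1) ha)
        rw [mul_div_mul_right _ _ ha0, mul_div_mul_right _ _ ha0, ← sub_div, sub_sub_cancel] at e1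
        exact e1
      · have := K.div_mem h01 hb
        rwa [mul_div_mul_right _ _ hb0] at this
    have q1 : w1 / w2 ∈ K := by
      by_cases ha0 : a = 0
      · have hb0 := hne.resolve_left (fun h => h ha0)
        have e1 := K.add_mem (K.div_mem h01 hb) (K.div_mem (by simpa [ha0] using hk1) hb)
        rw [mul_div_mul_right _ _ hb0, mul_div_mul_right _ _ hb0, ← add_div, add_sub_cancel] at e1
        exact e1
      · have := K.div_mem h10 ha
        rwa [mul_div_mul_right _ _ ha0] at this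
    have qc : w2 * c2 ∈ K := by
      have := K.neg_mem (K.add_mem (K.mul_mem q0 ha) (K.mul_mem q1 hb))
      convert this using 1
      field_simp
      linear_combination hsum
    refine ⟨hne, fun i j => ?_⟩
    have col : ∀ t, w2 * t ∈ K → w0 * t ∈ K ∧ w1 * t ∈ K ∧ w2 * t ∈ K := fun t ht => by
      have e0 := K.mul_mem q0 ht
      have e1 := K.mul_mem q1 ht
      rw [← mul_assoc, div_mul_cancel₀ _ hw2] at e0 e1
      exact ⟨e0, e1, ht⟩
    fin_cases i <;> fin_cases j <;>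
      first
      | exact (col a ha).1 | exact (col a ha).2.1 | exact (col a ha).2.2
      | exact (col b hb).1 | exact (col b hb).2.1 | exact (col b hb).2.2
      | exact (col c2 qc).1 | exact (col c2 qc).2.1 | exact (col c2 qc).2.2
  set R := ratGroup hdual K with hR
  have offR : ∀ {w χ : Fin 3 → F} {g : G3}, g.1 = 1 + vecMulVec w χ → Mem P w χ → χ ≠ 0 →
      d 2 ⬝ᵥ w ≠ 0 → g ∈ R := fun {w χ g} hg hw hχ hw2 => by
    show ratPart e d K g.1
    rw [hg]; exact vmv_rat hdual (off w χ hw hχ hw2).2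
  -- a transvection with centre off the plane
  let L : V →ₗ[F] F := { toFun := fun v => d 2 ⬝ᵥ v, map_add' := dotProduct_add _,
                         map_smul' := fun t v => by simp [dotProduct_smul] }
  obtain ⟨g, hg, hg2⟩ : ∃ g : G3, g ∈ P ∧ g.1 *ᵥ x ∉ LinearMap.ker L := by
    refine exists_centre_not_mem hP h1 _ ?_ (u := x) (LinearMap.mem_ker.2 hφ'x) h1.1
    intro e'
    have : e 2 ∈ LinearMap.ker L := e' ▸ Submodule.mem_top
    have h' : d 2 ⬝ᵥ e 2 = 0 := this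
    rw [hdual, if_pos rfl] at h'
    exact one_ne_zero h'
  set z := g.1 *ᵥ x
  set η := φ1 ᵥ* (g⁻¹ : G3).1
  have hT : Root P z η := h1.map hg
  have hz2 : d 2 ⬝ᵥ z ≠ 0 := fun h => hg2 (LinearMap.mem_ker.2 h)
  obtain ⟨hη, -⟩ := off z η hT.2.2 hT.2.1 hz2
  -- every transvection is rational
  have all : ∀ w χ : Fin 3 → F, Root P w χ → ∀ s : G3, s.1 = 1 + vecMulVec w χ → s ∈ R := by
    intro w χ hw s hs
    by_cases hw2 : d 2 ⬝ᵥ w = 0
    swap
    · exact offR hs hw.2.2 hw.2.1 hw2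
    obtain ⟨z', η', hm, hz', hη'w⟩ : ∃ z' η' : Fin 3 → F, Mem P z' η' ∧ d 2 ⬝ᵥ z' ≠ 0 ∧ η' ⬝ᵥ w ≠ 0 := by
      by_contra hne
      push Not at hne
      have e0 := hne _ _ hT.2.2 hz2
      have e1 := hne _ _ (m01.conj hP hT.2.2) (by
        rw [dotProduct_add, dotProduct_smul, hdual, if_neg (by decide), smul_zero, add_zero]; exact hz2)
      have e2 := hne _ _ (m10.conj hP hT.2.2) (by
        rw [dotProduct_add, dotProduct_smul, hdual, if_neg (by decide), smul_zero, add_zero]; exact hz2)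
      rw [sub_dotProduct, smul_dotProduct, e0, zero_sub, neg_eq_zero, smul_eq_mul] at e1 e2
      have h0 := hdotexp η w
      rw [e0, hw2, zero_mul, add_zero] at h0
      refine hw.1 ?_
      rw [hexp w, hw2]
      rcases hη with h | h
      · have w1 := (mul_eq_zero.1 e1).resolve_left h
        rw [w1, zero_mul, add_zero] at h0
        rw [w1, (mul_eq_zero.1 h0.symm).resolve_right h]
        simp
      · have w0 := (mul_eq_zero.1 e2).resolve_left h
        rw [w0, zero_mul, zero_add] at h0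
        rw [w0, (mul_eq_zero.1 h0.symm).resolve_right h]
        simp
    have hη'0 : η' ≠ 0 := fun h => hη'w (by rw [h, zero_dotProduct])
    obtain ⟨t, ht, et⟩ := hm
    have htR : t ∈ R := offR et ⟨t, ht, et⟩ hη'0 hz'
    have hz0 : z' ≠ 0 := fun h => hz' (by rw [h, dotProduct_zero])
    have hconj := hw.map ht
    have hw' : t.1 *ᵥ w = w + (η' ⬝ᵥ w) • z' := by rw [et, one_add_mulVec]
    have hgR : t * s * t⁻¹ ∈ R := by
      refine offR ?_ hconj.2.2 hconj.2.1 ?_
      · rw [Units.val_mul, Units.val_mul, hs, mul_add, mul_one, add_mul, mul_vecMulVec, vecMulVec_mul,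
          Units.mul_inv]
      · rw [hw', dotProduct_add, dotProduct_smul, hw2, zero_add, smul_eq_mul]
        exact mul_ne_zero hη'w hz'
    have := R.mul_mem (R.mul_mem (R.inv_mem htR) hgR) htR
    rwa [show t⁻¹ * (t * s * t⁻¹) * t = s by group] at this
  -- hence the group is rational
  have hPR : P ≤ R := by
    obtain ⟨r, hr, er⟩ := h1.2.2
    have hn : Subgroup.normalClosure {(⟨r, hr⟩ : P)} = ⊤ :=
      (hP.normal_cases _).resolve_left fun hle =>
        h1.ne_scalar hP er (hle (Subgroup.subset_normalClosure rfl))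
    intro k hk
    have hle : Subgroup.normalClosure {(⟨r, hr⟩ : P)} ≤ R.subgroupOf P := by
      refine (Subgroup.closure_le _).2 fun a ha => ?_
      obtain ⟨b, hb, hba⟩ := Group.mem_conjugatesOfSet_iff.1 ha
      rw [Set.mem_singleton_iff] at hb
      subst hb
      obtain ⟨c, hc⟩ := isConj_iff.1 hba
      refine all _ _ (h1.map c.2) a.1 ?_
      rw [← hc]
      show ((c : G3) * r * (c : G3)⁻¹).1 = _
      rw [Units.val_mul, Units.val_mul, er, mul_add, mul_one, add_mul, mul_vecMulVec, vecMulVec_mul,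
        Units.mul_inv]
    exact hle (hn.symm ▸ Subgroup.mem_top (⟨k, hk⟩ : P))
  have hDE : Matrix.of d * (Matrix.of e)ᵀ = 1 := mul_eq_one_comm.1 (dual_mul hdual)
  let B : G3 := ⟨Matrix.of d, (Matrix.of e)ᵀ, hDE, dual_mul hdual⟩
  have hKtop : K = ⊤ := by
    by_contra hne
    refine hprim K hne ⟨B, ?_⟩
    rintro _ ⟨k, hk, rfl⟩ i j
    exact hPR hk i j
  have hscal : ∀ {c φ : Fin 3 → F}, Mem P c φ → ∀ k : F, Mem P (k • c) φ := fun h k =>
    hsmul h (hKtop ▸ Subfield.mem_top k)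
  -- the six root groups
  have m2 : Mem P (e 2) (d 0) ∧ Mem P (e 2) (d 1) := by
    have hT1 : Mem P ((d 2 ⬝ᵥ z)⁻¹ • z) η := hscal hT.2.2 _
    set z' := (d 2 ⬝ᵥ z)⁻¹ • z
    have hz'2 : d 2 ⬝ᵥ z' = 1 := by rw [dotProduct_smul, smul_eq_mul, inv_mul_cancel₀ hz2]
    have hU : Mem P ((-(d 0 ⬝ᵥ z')) • e 0 + (-(d 1 ⬝ᵥ z')) • e 1) (d 2) :=
      (hscal m02 _).add_centre hP (hscal m12 _)
    have hc := hU.conj hP hT1
    have hz'' : z' + (d 2 ⬝ᵥ z') • ((-(d 0 ⬝ᵥ z')) • e 0 + (-(d 1 ⬝ᵥ z')) • e 1) = e 2 := by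
      conv_lhs => arg 1; rw [hexp z']
      rw [hz'2]
      module
    rw [hz''] at hc
    set η' := η - (η ⬝ᵥ ((-(d 0 ⬝ᵥ z')) • e 0 + (-(d 1 ⬝ᵥ z')) • e 1)) • d 2 with hη'
    have hae : η' ⬝ᵥ e 0 = η ⬝ᵥ e 0 ∧ η' ⬝ᵥ e 1 = η ⬝ᵥ e 1 := by
      constructor <;>
        · rw [hη', sub_dotProduct, smul_dotProduct, hdual, if_neg (by decide), smul_zero, sub_zero]
    have hη2 : η' = (η' ⬝ᵥ e 0) • d 0 + (η' ⬝ᵥ e 1) • d 1 := by
      refine dotProduct_eq _ _ fun v => ?_
      have h0 : η' ⬝ᵥ e 2 = 0 := hc.dot hP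
      rw [hdotexp η' v, h0, add_dotProduct, smul_dotProduct, smul_dotProduct]
      simp only [smul_eq_mul]
      ring
    rw [hη2, hae.1, hae.2] at hc
    set a := η ⬝ᵥ e 0
    set b := η ⬝ᵥ e 1
    have hax : ∀ {c φ : Fin 3 → F}, Mem P c φ → ∀ k : F, Mem P c (k • φ) := fun h k =>
      (mem_smul_iff k).1 (hscal h k)
    have h20 : Mem P (e 2) (d 0) := by
      by_cases hb : b = 0
      · rw [hb, zero_smul, add_zero] at hc
        have := hax hc a⁻¹
        rwa [smul_smul, inv_mul_cancel₀ (hη.resolve_right (fun h => h hb)), one_smul] at this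
      · have := (hscal m10 b⁻¹).conj hP hc
        rw [hdual, if_neg (by decide), zero_smul, add_zero] at this
        have h' := hax ((this.neg_axis hP).add_axis hP hc) 1
        rw [one_smul, dotProduct_smul, add_dotProduct, smul_dotProduct, smul_dotProduct, hdual, hdual,
          if_neg (by decide), if_pos rfl] at h'
        convert h' using 1
        simp [hb]
    refine ⟨h20, ?_⟩
    have := m01.conj hP h20
    rw [hdual, if_neg (by decide), zero_smul, add_zero, hdual, if_pos rfl, one_smul] at this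
    have h' := (this.neg_axis hP).add_axis hP h20
    rwa [neg_sub, sub_add_cancel] at h'
  have hall : ∀ i j : Fin 3, i ≠ j → ∀ t : F, Mem P (t • e i) (d j) := by
    intro i j hij t
    fin_cases i <;> fin_cases j <;>
      first
      | exact absurd rfl hij
      | exact hscal m01 t | exact hscal m02 t | exact hscal m10 t | exact hscal m12 t
      | exact hscal m2.1 t | exact hscal m2.2 t
  intro s hs
  let φ : Matrix.SpecialLinearGroup (Fin 3) F →* G3 :=
    (MulAut.conj B⁻¹).toMonoidHom.comp Matrix.SpecialLinearGroup.toGL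
  have htop : (⊤ : Subgroup (Matrix.SpecialLinearGroup (Fin 3) F)) ≤ P.comap φ := by
    rw [← CfsgLib.StSL.closure_transvection_eq_top (show 2 ≤ 3 by norm_num), Subgroup.closure_le]
    rintro _ ⟨i, j, hij, t, rfl⟩
    obtain ⟨k, hk, ek⟩ := hall i j hij t
    show φ _ ∈ P
    convert hk using 1
    refine Units.ext ?_
    show (Matrix.of e)ᵀ * (1 + Matrix.single i j t : M3) * Matrix.of d = k.1
    rw [ek, mul_add, add_mul, mul_one, dual_mul hdual]
    congr 1
    rw [show Matrix.single i j t = vecMulVec (Pi.single i t) (Pi.single j (1 : F)) from by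
        ext a b; by_cases ha : a = i <;> by_cases hb : b = j <;>
          simp [Matrix.single_apply, vecMulVec_apply, ha, hb, Ne.symm, eq_comm],
      mul_vecMulVec, vecMulVec_mul]
    congr 1
    · ext a
      simp [Matrix.mulVec, dotProduct, Pi.single_apply, mul_comm]
    · ext b
      simp [Matrix.vecMul, dotProduct, Pi.single_apply]
  have hdet : (B.1 * s.1 * (B⁻¹ : G3).1).det = 1 := by
    have hds : s.1.det = 1 := congrArg Units.val (MonoidHom.mem_ker.1 hs)
    rw [det_mul, det_mul, hds, mul_one, ← det_mul, Units.mul_inv, det_one]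
  let A : Matrix.SpecialLinearGroup (Fin 3) F := ⟨_, hdet⟩
  have h : φ A ∈ P := htop (Subgroup.mem_top A)
  convert h using 1
  refine Units.ext ?_
  show s.1 = (B⁻¹ : G3).1 * (B.1 * s.1 * (B⁻¹ : G3).1) * B.1
  rw [show (B⁻¹ : G3).1 * (B.1 * s.1 * (B⁻¹ : G3).1) * B.1 = ((B⁻¹ : G3).1 * B.1) * s.1 * ((B⁻¹ : G3).1 * B.1) by
    simp only [Matrix.mul_assoc], Units.inv_mul, Matrix.one_mul, Matrix.mul_one]

end CfsgLib.ResThree.Tv
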