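import Cfsg.Agent.Lib.MaxSub.ResThree.Tv.CaseL

/-!
One axis at every centre: a hermitian form over a quadratic extension of the field of roots.
-/

set_option autoImplicit false
set_option linter.unusedSectionVars false
set_option maxHeartbeats 1000000

namespace CfsgLib.ResThree.Tv

open Matrix

variable {F : Type*} [Field F] [Fintype F]
variable {P : Subgroup (Matrix.GeneralLinearGroup (Fin 3) F)}

local notation "G3" => Matrix.GeneralLinearGroup (Fin 3) F
local notation "V" => Fin 3 → F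
local notation "M3" => Matrix (Fin 3) (Fin 3) F

/-- Every centre carries one axis. -/
def OneAxis (P : Subgroup (Matrix.GeneralLinearGroup (Fin 3) F)) : Prop :=
  ∀ x φ φ' : Fin 3 → F, Root P x φ → Mem P x φ' → ∃ k : F, φ' = k • φ

/-- The roots are scaled copies of `K` and all products of pairings lie in it. -/
structure RootField (P : Subgroup (Matrix.GeneralLinearGroup (Fin 3) F)) (K : Subfield F) : Prop where
  three : 3 ≤ Nat.card K
  roots : ∀ c φ : Fin 3 → F, Root P c φ → rootSet P c φ = K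
  prods : ∀ c φ y ψ : Fin 3 → F, Mem P c φ → Mem P y ψ → φ ⬝ᵥ y * ψ ⬝ᵥ c ∈ K

theorem RootField.smul {K : Subfield F} (hK : RootField P K) {c φ : Fin 3 → F} (hm : Mem P c φ) {k : F}
    (hk : k ∈ K) : Mem P (k • c) φ := by
  by_cases hc : c = 0
  · rw [hc, smul_zero]; exact mem_zero φ
  by_cases hφ : φ = 0
  · rw [hφ]; exact mem_zero_axis _
  have : k ∈ rootSet P c φ := by rw [hK.roots c φ ⟨hc, hφ, hm⟩]; exact hk
  exact this

/-- A subgroup with all transvections of a class is everything. -/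
theorem le_of_roots {x φ : Fin 3 → F} (hP : Core P) (h : Root P x φ)
    (R : Subgroup (Matrix.GeneralLinearGroup (Fin 3) F))
    (hR : ∀ w χ : Fin 3 → F, Root P w χ →
      ∀ s : Matrix.GeneralLinearGroup (Fin 3) F, s.1 = 1 + vecMulVec w χ → s ∈ R) : P ≤ R := by
  obtain ⟨r, hr, er⟩ := h.2.2
  have hn : Subgroup.normalClosure {(⟨r, hr⟩ : P)} = ⊤ :=
    (hP.normal_cases _).resolve_left fun hle =>
      h.ne_scalar hP er (hle (Subgroup.subset_normalClosure rfl))
  intro k hk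
  have hle : Subgroup.normalClosure {(⟨r, hr⟩ : P)} ≤ R.subgroupOf P := by
    refine (Subgroup.closure_le _).2 fun a ha => ?_
    obtain ⟨b, hb, hba⟩ := Group.mem_conjugatesOfSet_iff.1 ha
    rw [Set.mem_singleton_iff] at hb
    subst hb
    obtain ⟨c, hc⟩ := isConj_iff.1 hba
    refine hR _ _ (h.map c.2) a.1 ?_
    rw [← hc]
    show ((c : G3) * r * (c : G3)⁻¹).1 = _
    rw [Units.val_mul, Units.val_mul, er, mul_add, mul_one, add_mul, mul_vecMulVec, vecMulVec_mul,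
      Units.mul_inv]
  exact hle (hn.symm ▸ Subgroup.mem_top (⟨k, hk⟩ : P))

/-- Incident transvections have one flag. -/
theorem same_flag {K : Subfield F} (hK : RootField P K) {c φ y ψ : Fin 3 → F} (hP : Core P) (hL : OneAxis P) (hc : Root P c φ) (hy : Root P y ψ)
    (h : φ ⬝ᵥ y = 0 ∨ ψ ⬝ᵥ c = 0) : (∃ k : F, y = k • c) ∧ ∃ m : F, ψ = m • φ := by
  have key : ∀ {a α b β : Fin 3 → F}, Root P a α → Root P b β → α ⬝ᵥ b = 0 → β ⬝ᵥ a = 0 := by
    intro a α b β ha hb h0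
    have hm := ha.2.2.conj hP hb.2.2
    rw [h0, zero_smul, add_zero] at hm
    obtain ⟨k, hk⟩ := hL _ _ _ hb hm
    by_contra hne
    have e : α = ((1 - k) / β ⬝ᵥ a) • β := by
      have : (β ⬝ᵥ a) • α = (1 - k) • β := by rw [sub_smul, one_smul, ← hk, sub_sub_cancel]
      calc α = (β ⬝ᵥ a)⁻¹ • ((β ⬝ᵥ a) • α) := by rw [smul_smul, inv_mul_cancel₀ hne, one_smul]
        _ = _ := by rw [this, smul_smul, div_eq_inv_mul]
    have h1 := ha.2.2.dot hP
    rw [e, smul_dotProduct, smul_eq_mul] at h1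
    have hk0 := (mul_eq_zero.1 h1).resolve_right hne
    exact ha.2.1 (by rw [e, hk0, zero_smul])
  have h' : φ ⬝ᵥ y = 0 ∧ ψ ⬝ᵥ c = 0 := by
    rcases h with h | h
    · exact ⟨h, key hc hy h⟩
    · exact ⟨key hy hc h, h⟩
  have hpar : ∃ k : F, y = k • c := by
    by_contra hne
    push Not at hne
    have hli : LinearIndependent F ![c, y] := (LinearIndependent.pair_iff' hc.1).2 fun t ht => hne t ht.symm
    obtain ⟨m, hm⟩ := prop_of_kills hli hc.2.1 (hc.2.2.dot hP) h'.1 h'.2 (hy.2.2.dot hP)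
    have hm0 : m ≠ 0 := fun e => hy.2.1 (by rw [hm, e, zero_smul])
    have hy' : Mem P (m • y) φ := by rw [mem_smul_iff, ← hm]; exact hy.2.2
    -- two centres on one axis give two axes at one centre
    obtain ⟨z, ζ, hz, -, hz1, hz2⟩ := exists_opposite hP hc hc
    have hq : -(m * ζ ⬝ᵥ y / ζ ⬝ᵥ c) ∈ K := by
      have e1 := hK.prods z ζ (m • y) φ hz.2.2 hy'
      have e2 := hK.prods z ζ c φ hz.2.2 hc.2.2
      rw [dotProduct_smul, smul_eq_mul] at e1
      have := K.neg_mem (K.div_mem e1 e2)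
      rwa [mul_div_mul_right _ _ hz1] at this
    have hw := hy'.add_centre hP (hK.smul hc.2.2 hq)
    set w := m • y + (-(m * ζ ⬝ᵥ y / ζ ⬝ᵥ c)) • c with hw'
    have hw0 : w ≠ 0 := fun e => by
      have e2 : y = (ζ ⬝ᵥ y / ζ ⬝ᵥ c) • c := by
        rw [hw', add_eq_zero_iff_eq_neg, ← neg_smul, neg_neg, mul_div_assoc, ← smul_smul] at e
        exact smul_right_injective V hm0 e
      exact hne _ e2
    have h0 : ζ ⬝ᵥ w = 0 := by
      rw [hw', dotProduct_add, dotProduct_smul, dotProduct_smul, smul_eq_mul, smul_eq_mul, neg_mul,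
        div_mul_cancel₀ _ hz2, add_neg_cancel]
    have := hz.2.2.conj hP hw
    rw [h0, zero_smul, add_zero] at this
    obtain ⟨k, hk⟩ := hL _ _ _ ⟨hw0, hc.2.1, hw⟩ this
    have hz' := congrArg (· ⬝ᵥ c) hk
    simp only [sub_dotProduct, smul_dotProduct, hc.2.2.dot hP, smul_zero, mul_zero, zero_sub, smul_eq_mul,
      neg_eq_zero, mul_eq_zero] at hz'
    exact hz1 (hz'.resolve_right hz2)
  obtain ⟨k, hk⟩ := hpar
  refine ⟨⟨k, hk⟩, ?_⟩
  have hk0 : k ≠ 0 := fun e => hy.1 (by rw [hk, e, zero_smul])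
  obtain ⟨m, hm⟩ := hL c φ (k • ψ) hc (by rw [← mem_smul_iff, ← hk]; exact hy.2.2)
  exact ⟨k⁻¹ * m, by rw [← smul_smul, ← hm, smul_smul, inv_mul_cancel₀ hk0, one_smul]⟩

/-- Three roots pairwise opposite with independent centres, normalised along the first. -/
structure Triangle (P : Subgroup (Matrix.GeneralLinearGroup (Fin 3) F)) where
  ctr : Fin 3 → Fin 3 → F
  axis : Fin 3 → Fin 3 → F
  root : ∀ i, Root P (ctr i) (axis i)
  indep : LinearIndependent F ctr
  opp : ∀ i j, i ≠ j → axis i ⬝ᵥ ctr j ≠ 0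
  one1 : axis 0 ⬝ᵥ ctr 1 = 1
  one2 : axis 0 ⬝ᵥ ctr 2 = 1

theorem root_scale {x φ : Fin 3 → F} (h : Root P x φ) {a : F} (ha : a ≠ 0) :
    Root P (a⁻¹ • x) (a • φ) := by
  refine ⟨smul_ne_zero (inv_ne_zero ha) h.1, smul_ne_zero ha h.2.1, ?_⟩
  rw [mem_smul_iff, smul_smul, inv_mul_cancel₀ ha, one_smul]
  exact h.2.2

theorem exists_triangle {K : Subfield F} (hK : RootField P K) (hP : Core P) (hL : OneAxis P)
    {x φ : Fin 3 → F} (hx : Root P x φ) : Nonempty (Triangle P) := by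
  obtain ⟨y0, ψ0, hy0, -, h1, -⟩ := exists_opposite hP hx hx
  have hy := root_scale hy0 h1
  set y := (φ ⬝ᵥ y0)⁻¹ • y0
  set ψ := (φ ⬝ᵥ y0) • ψ0
  have hxy : φ ⬝ᵥ y = 1 := by rw [dotProduct_smul, smul_eq_mul, inv_mul_cancel₀ h1]
  have hψx : ψ ⬝ᵥ x ≠ 0 := fun e => by
    obtain ⟨⟨k, hk⟩, -⟩ := same_flag hK hP hL hx hy (Or.inr e)
    rw [hk, dotProduct_smul, hx.2.2.dot hP, smul_zero] at hxy
    exact zero_ne_one hxy
  have hli2 : LinearIndependent F ![x, y] := (LinearIndependent.pair_iff' hx.1).2 fun t ht => by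
    rw [← ht, dotProduct_smul, hx.2.2.dot hP, smul_zero] at hxy
    exact zero_ne_one hxy
  have hne : Submodule.span F ({x, y} : Set V) ≠ ⊤ := fun e => by
    have h2 : Set.finrank F (Set.range ![x, y]) ≤ Fintype.card (Fin 2) := finrank_range_le_card _
    have hr : Set.range ![x, y] = ({x, y} : Set V) := by
      simp only [Matrix.range_cons, Matrix.range_empty, Set.union_empty, Set.singleton_union]
    rw [hr, Fintype.card_fin, Set.finrank, e, finrank_top, Module.finrank_fintype_fun_eq_card,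
      Fintype.card_fin] at h2
    omega
  obtain ⟨g, hg, hz⟩ := exists_centre_not_mem hP hx _ hne (u := x) (Submodule.subset_span (by simp)) hx.1
  have hz0 := hx.map hg
  set z0 := g.1 *ᵥ x
  set ζ0 := φ ᵥ* (g⁻¹ : G3).1
  have off : ∀ {a α : Fin 3 → F}, Root P a α → a ∈ Submodule.span F ({x, y} : Set V) →
      α ⬝ᵥ z0 ≠ 0 ∧ ζ0 ⬝ᵥ a ≠ 0 := by
    intro a α ha ham
    refine ⟨fun e => ?_, fun e => ?_⟩
    · obtain ⟨⟨k, hk⟩, -⟩ := same_flag hK hP hL ha hz0 (Or.inl e)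
      exact hz (hk ▸ Submodule.smul_mem _ k ham)
    · obtain ⟨⟨k, hk⟩, -⟩ := same_flag hK hP hL ha hz0 (Or.inr e)
      exact hz (hk ▸ Submodule.smul_mem _ k ham)
  obtain ⟨o1, o1'⟩ := off hx (Submodule.subset_span (by simp))
  obtain ⟨o2, o2'⟩ := off hy (Submodule.subset_span (by simp))
  refine ⟨⟨![x, y, (φ ⬝ᵥ z0)⁻¹ • z0], ![φ, ψ, (φ ⬝ᵥ z0) • ζ0], ?_, ?_, ?_, hxy, ?_⟩⟩
  · intro i
    fin_cases i
    · exact hx
    · exact hy
    · exact root_scale hz0 o1
  · rw [Fintype.linearIndependent_iff]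
    intro r hr
    simp only [Fin.sum_univ_three, Matrix.cons_val_zero, Matrix.cons_val_one, Matrix.cons_val] at hr
    have r2 : r 2 = 0 := by
      by_contra h
      refine hz ?_
      have : (r 2 * (φ ⬝ᵥ z0)⁻¹) • z0 = -(r 0 • x + r 1 • y) := by
        rw [← smul_smul]; exact eq_neg_of_add_eq_zero_right hr
      have hmem : (r 2 * (φ ⬝ᵥ z0)⁻¹) • z0 ∈ Submodule.span F ({x, y} : Set V) := by
        rw [this]
        exact Submodule.neg_mem _ (Submodule.mem_span_pair.2 ⟨_, _, rfl⟩)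
      exact (Submodule.smul_mem_iff _ (mul_ne_zero h (inv_ne_zero o1))).1 hmem
    rw [r2, zero_smul, add_zero] at hr
    obtain ⟨r0, r1⟩ := LinearIndependent.pair_iff.1 hli2 _ _ hr
    intro i
    fin_cases i
    · exact r0
    · exact r1
    · exact r2
  · intro i j hij
    fin_cases i <;> fin_cases j <;>
      simp [hxy, hψx, o1, o1', o2, o2', dotProduct_smul, smul_dotProduct] at hij ⊢
  · show φ ⬝ᵥ ((φ ⬝ᵥ z0)⁻¹ • z0) = 1
    rw [dotProduct_smul, smul_eq_mul, inv_mul_cancel₀ o1]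

/-- The conjugate of a root by a multiple of the first root of a triangle. -/
theorem Triangle.mem_shift {K : Subfield F} (hK : RootField P K) (hP : Core P) (Δ : Triangle P) {i : Fin 3}
    (hi : i ≠ 0) {r : F} (hr : r ∈ K) :
    Root P (Δ.ctr i + r • Δ.ctr 0) (Δ.axis i - (r * Δ.axis i ⬝ᵥ Δ.ctr 0) • Δ.axis 0) := by
  have h1 : Δ.axis 0 ⬝ᵥ Δ.ctr i = 1 := by
    fin_cases i
    · exact absurd rfl hi
    · exact Δ.one1
    · exact Δ.one2
  have hm := (hK.smul (Δ.root 0).2.2 hr).conj hP (Δ.root i).2.2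
  rw [h1, one_smul, dotProduct_smul, smul_eq_mul] at hm
  refine ⟨fun e => ?_, fun e => ?_, hm⟩
  · have := congrArg (Δ.axis 0 ⬝ᵥ ·) e
    simp [dotProduct_add, dotProduct_smul, h1, (Δ.root 0).2.2.dot hP] at this
  · have := congrArg (· ⬝ᵥ Δ.ctr 0) e
    simp [sub_dotProduct, smul_dotProduct, (Δ.root 0).2.2.dot hP] at this
    exact Δ.opp i 0 hi this

theorem prod_mul_mem {K : Subfield F} {x a : F} (ha : a ∈ K) (ha0 : a ≠ 0) (h : x * a ∈ K) : x ∈ K := by
  have := K.div_mem h ha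
  rwa [mul_div_cancel_right₀ _ ha0] at this

/-- The relation between the two coordinates of a transvection. -/
theorem Triangle.pair_rel {K : Subfield F} (hK : RootField P K) (hP : Core P) (hL : OneAxis P)
    (Δ : Triangle P) (σ : F →+* F) (hσ : ∀ x, σ x = x ↔ x ∈ K) {w χ : Fin 3 → F} (hw : Root P w χ)
    (hv : Δ.axis 0 ⬝ᵥ w = 1) {i : Fin 3} (hi : i ≠ 0) :
    σ (χ ⬝ᵥ Δ.ctr 0 * (Δ.axis i ⬝ᵥ w / Δ.axis i ⬝ᵥ Δ.ctr 0)) = -(χ ⬝ᵥ Δ.ctr i) ∧
      σ (χ ⬝ᵥ Δ.ctr i) = -(χ ⬝ᵥ Δ.ctr 0 * (Δ.axis i ⬝ᵥ w / Δ.axis i ⬝ᵥ Δ.ctr 0)) := by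
  have h1 : Δ.axis 0 ⬝ᵥ Δ.ctr i = 1 := by
    fin_cases i
    · exact absurd rfl hi
    · exact Δ.one1
    · exact Δ.one2
  set a := Δ.axis i ⬝ᵥ Δ.ctr 0
  set u1 := χ ⬝ᵥ Δ.ctr 0
  set u := χ ⬝ᵥ Δ.ctr i
  set v := Δ.axis i ⬝ᵥ w
  have ha0 : a ≠ 0 := Δ.opp i 0 hi
  have ha : a ∈ K := by
    have := hK.prods _ _ _ _ (Δ.root 0).2.2 (Δ.root i).2.2
    rwa [h1, one_mul] at this
  have hu1 : u1 ∈ K := by
    have := hK.prods _ _ _ _ (Δ.root 0).2.2 hw.2.2
    rwa [hv, one_mul] at this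
  have hu10 : u1 ≠ 0 := fun e => by
    obtain ⟨⟨k, hk⟩, -⟩ := same_flag hK hP hL (Δ.root 0) hw (Or.inr e)
    rw [hk, dotProduct_smul, (Δ.root 0).2.2.dot hP, smul_zero] at hv
    exact zero_ne_one hv
  have huv : v * u ∈ K := hK.prods _ _ _ _ (Δ.root i).2.2 hw.2.2
  set E' := u1 * (v / a) with hE'
  have hp : E' * u ∈ K := by
    have := K.mul_mem (K.div_mem hu1 ha) huv
    rw [hE']
    convert this using 1
    field_simp
  have hd : E' - u ∈ K := by
    have := hK.prods _ _ _ _ (Δ.mem_shift hK hP hi K.one_mem).2.2 hw.2.2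
    rw [dotProduct_add, dotProduct_smul, sub_dotProduct, smul_dotProduct, hv, one_smul, one_mul,
      smul_eq_mul, mul_one] at this
    refine prod_mul_mem ha ha0 ?_
    have h2 := K.sub_mem (K.add_mem this (K.mul_mem ha hu1)) huv
    convert h2 using 1
    rw [hE']
    field_simp
    ring
  have fix : ∀ {x}, x ∈ K → σ x = x := fun h => (hσ _).2 h
  have hσd : σ E' - σ u = E' - u := by rw [← map_sub, fix hd]
  have hσp : σ E' * σ u = E' * u := by rw [← map_mul, fix hp]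
  have key : (σ E' - E') * (σ E' + u) = 0 := by linear_combination (σ E') * hσd + hσp
  rcases mul_eq_zero.1 key with h | h
  · -- both coordinates in the field: an incidence
    have hE'K : E' ∈ K := (hσ _).1 (sub_eq_zero.1 h)
    have huK : u ∈ K := by
      have := K.sub_mem hE'K hd
      rwa [sub_sub_cancel] at this
    have hr : -(u / u1) ∈ K := K.neg_mem (K.div_mem huK hu1)
    have hroot := Δ.mem_shift hK hP hi hr
    obtain ⟨⟨k, hk⟩, m, hm⟩ := same_flag hK hP hL hroot hw (Or.inr (by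
      rw [dotProduct_add, dotProduct_smul, smul_eq_mul, neg_mul, div_mul_cancel₀ _ hu10, add_neg_cancel]))
    have hkone : k = 1 := by
      rw [hk, dotProduct_smul, dotProduct_add, dotProduct_smul, h1, (Δ.root 0).2.2.dot hP, smul_zero,
        add_zero, smul_eq_mul, mul_one] at hv
      exact hv
    have hvv : v = -(u / u1) * a := by
      show Δ.axis i ⬝ᵥ w = _
      rw [hk, hkone, one_smul, dotProduct_add, dotProduct_smul, (Δ.root i).2.2.dot hP, zero_add, smul_eq_mul]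
    have hEu : E' = -u := by
      rw [hE', hvv, mul_div_assoc, div_self ha0, mul_one, mul_neg, mul_div_cancel₀ _ hu10]
    exact ⟨by rw [fix hE'K, hEu], by rw [fix huK, hEu, neg_neg]⟩
  · have hE : σ E' = -u := eq_neg_of_add_eq_zero_left h
    exact ⟨hE, by linear_combination hE - hσd⟩

/-- One axis at every centre: a unitary form over the quadratic extension of the roots. -/
theorem caseU (hP : Core P) (hprim : Primitive P) {K : Subfield F} (hK : RootField P K) (hL : OneAxis P)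
    {x φ : Fin 3 → F} (hx : Root P x φ) :
    Fintype.card F ≤ Nat.card K ^ 2 ∧ ∃ (σ : F ≃+* F) (f : (Fin 3 → F) → (Fin 3 → F) → F),
      Cfsg.Geo.IsUnitaryForm σ f ∧ Cfsg.Geo.FixesForm (Cfsg.Geo.matrixSet P) f := by
  classical
  obtain ⟨p, hchar⟩ := CharP.exists F
  haveI : Fact p.Prime := ⟨CharP.char_is_prime F p⟩
  obtain ⟨n, hn0, hn⟩ : ∃ n : ℕ, 0 < n ∧ Nat.card K = p ^ n := by
    haveI : Fintype K := Fintype.ofFinite _
    haveI : CharP K p := (CharP.charP_iff_prime_eq_zero (Fact.out : p.Prime)).2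
      (Subtype.ext (by simpa using CharP.cast_eq_zero F p))
    obtain ⟨n, -, hn⟩ := FiniteField.card K p
    exact ⟨n, n.pos, by rw [Nat.card_eq_fintype_card, hn]⟩
  set σ : F →+* F := iterateFrobenius F p n with hσdef
  have hσ : ∀ t, σ t = t ↔ t ∈ K := fun t => by
    rw [hσdef, iterateFrobenius_def, CfsgLib.PSL2Max.mem_subfield_iff, hn]
  have hσinj : Function.Injective σ := σ.injective
  have fix : ∀ {t}, t ∈ K → σ t = t := fun h => (hσ _).2 h
  obtain ⟨Δ⟩ := exists_triangle hK hP hL hx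
  obtain ⟨c, α, hroot, hindep, hopp, one1, one2⟩ := Δ
  let Δ : Triangle P := ⟨c, α, hroot, hindep, hopp, one1, one2⟩
  have hd0 : ∀ i, α i ⬝ᵥ c i = 0 := fun i => (hroot i).2.2.dot hP
  obtain ⟨t1, t1'⟩ := Δ.pair_rel hK hP hL σ hσ (hroot 2) (w := c 2) (χ := α 2) one2 (i := 1) (by decide)
  set a10 := α 1 ⬝ᵥ c 0
  set a20 := α 2 ⬝ᵥ c 0
  set a12 := α 1 ⬝ᵥ c 2
  set a21 := α 2 ⬝ᵥ c 1
  change σ (a20 * (a12 / a10)) = -a21 at t1
  change σ a21 = -(a20 * (a12 / a10)) at t1'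
  have k10 : a10 ∈ K := by
    have := hK.prods _ _ _ _ (hroot 0).2.2 (hroot 1).2.2
    rwa [one1, one_mul] at this
  have k20 : a20 ∈ K := by
    have := hK.prods _ _ _ _ (hroot 0).2.2 (hroot 2).2.2
    rwa [one2, one_mul] at this
  have n10 : a10 ≠ 0 := hopp 1 0 (by decide)
  have n20 : a20 ≠ 0 := hopp 2 0 (by decide)
  set T := a12 * a20 with hTdef
  set T' := a21 * a10 with hT'def
  have hT : σ T = -T' := by
    have e : T = a10 * (a20 * (a12 / a10)) := by rw [hTdef]; field_simp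
    rw [e, map_mul, t1, fix k10, hT'def]; ring
  have hT' : σ T' = -T := by
    rw [hT'def, map_mul, t1', fix k10, hTdef]
    field_simp
  have hTK : T ∉ K := by
    intro hT0
    have hT'K : T' ∈ K := by
      have := fix hT0
      rw [hT] at this
      have h' := K.neg_mem hT0
      rwa [← this, neg_neg] at h'
    have hA21 : a21 ∈ K := prod_mul_mem k10 n10 hT'K
    have hr : -(a21 / a20) ∈ K := K.neg_mem (K.div_mem hA21 k20)
    obtain ⟨⟨k, hk⟩, -⟩ := same_flag hK hP hL (Δ.mem_shift hK hP (i := 1) (by decide) hr) (hroot 2) (Or.inr (by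
      rw [dotProduct_add, dotProduct_smul, smul_eq_mul]
      show a21 + -(a21 / a20) * a20 = 0
      rw [neg_mul, div_mul_cancel₀ _ n20, add_neg_cancel]))
    have := Fintype.linearIndependent_iff.1 hindep ![k * -(a21 / a20), k, -1] (by
      simp only [Fin.sum_univ_three, Matrix.cons_val_zero, Matrix.cons_val_one, Matrix.cons_val, neg_one_smul]
      rw [hk]
      show _ = (0 : V)
      module) 2
    exact neg_ne_zero.2 one_ne_zero this
  have hTT : T + T' ≠ 0 := fun e => hTK ((hσ _).1 (by rw [hT]; linear_combination -e))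
  let L : Subfield F := RingHom.eqLocusField (σ.comp σ) (RingHom.id F)
  have hL' : ∀ t, t ∈ L ↔ σ (σ t) = t := fun t => Iff.rfl
  have hKL : ∀ {t}, t ∈ K → t ∈ L := fun h => (hL' _).2 (by rw [fix h, fix h])
  have hTL : T ∈ L := (hL' _).2 (by rw [hT, map_neg, hT', neg_neg])
  have hT'L : T' ∈ L := (hL' _).2 (by rw [hT', map_neg, hT, neg_neg])
  -- the Gram matrix
  let A : M3 := Matrix.of fun i j => α i ⬝ᵥ c j
  let lam : Fin 3 → F := ![1, -a10⁻¹, -a20⁻¹]
  have hlam : ∀ i, lam i ∈ K := by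
    intro i
    fin_cases i
    · exact K.one_mem
    · exact K.neg_mem (K.inv_mem k10)
    · exact K.neg_mem (K.inv_mem k20)
  have e12 : a12 = T / a20 := by rw [hTdef]; field_simp
  have e21 : a21 = T' / a10 := by rw [hT'def]; field_simp
  have hAL : ∀ i j, A i j ∈ L := by
    intro i j
    fin_cases i <;> fin_cases j
    · show α 0 ⬝ᵥ c 0 ∈ L; rw [hd0]; exact L.zero_mem
    · show α 0 ⬝ᵥ c 1 ∈ L; rw [one1]; exact L.one_mem
    · show α 0 ⬝ᵥ c 2 ∈ L; rw [one2]; exact L.one_mem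
    · exact hKL k10
    · show α 1 ⬝ᵥ c 1 ∈ L; rw [hd0]; exact L.zero_mem
    · show a12 ∈ L; rw [e12]; exact L.div_mem hTL (hKL k20)
    · exact hKL k20
    · show a21 ∈ L; rw [e21]; exact L.div_mem hT'L (hKL k10)
    · show α 2 ⬝ᵥ c 2 ∈ L; rw [hd0]; exact L.zero_mem
  have hdet : A.det = T + T' := by
    rw [Matrix.det_fin_three]
    show α 0 ⬝ᵥ c 0 * α 1 ⬝ᵥ c 1 * α 2 ⬝ᵥ c 2 - α 0 ⬝ᵥ c 0 * a12 * a21 - α 0 ⬝ᵥ c 1 * a10 * α 2 ⬝ᵥ c 2 +
      α 0 ⬝ᵥ c 1 * a12 * a20 + α 0 ⬝ᵥ c 2 * a10 * a21 - α 0 ⬝ᵥ c 2 * α 1 ⬝ᵥ c 1 * a20 = _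
    rw [hd0, hd0, hd0, one1, one2, hTdef, hT'def]; ring
  let AL : Matrix (Fin 3) (Fin 3) L := Matrix.of fun i j => ⟨A i j, hAL i j⟩
  have hALm : AL.map L.subtype = A := rfl
  have hALdet : IsUnit AL.det := isUnit_iff_ne_zero.2 fun e => hTT (by
    rw [← hdet, ← hALm, ← RingHom.mapMatrix_apply, ← RingHom.map_det, e, map_zero])
  let A' : M3 := AL⁻¹.map L.subtype
  have hA'L : ∀ i j, A' i j ∈ L := fun i j => (AL⁻¹ i j).2
  have hA'A : A' * A = 1 := by
    rw [← hALm, ← Matrix.map_mul, Matrix.nonsing_inv_mul _ hALdet, Matrix.map_one _ (map_zero _) (map_one _)]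
  let d : Fin 3 → Fin 3 → F := fun i => ∑ k, A' i k • α k
  have hdv : ∀ i (v : V), d i ⬝ᵥ v = ∑ k, A' i k * α k ⬝ᵥ v := fun i v => by
    simp only [d, sum_dotProduct, smul_dotProduct, smul_eq_mul]
  have hdual : ∀ i j, d i ⬝ᵥ c j = if i = j then 1 else 0 := fun i j => by
    rw [hdv]
    exact (congrFun (congrFun hA'A i) j).trans Matrix.one_apply
  have hexp : ∀ v : V, v = ∑ j, (d j ⬝ᵥ v) • c j := by
    intro v
    conv_lhs => rw [← one_mulVec v, ← dual_mul hdual, ← mulVec_mulVec]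
    ext k
    simp [Matrix.mulVec, dotProduct, Fin.sum_univ_three]
    ring
  have hdotexp : ∀ χ v : V, χ ⬝ᵥ v = ∑ j, (d j ⬝ᵥ v) * χ ⬝ᵥ c j := by
    intro χ v
    conv_lhs => rw [hexp v]
    simp [dotProduct_sum, dotProduct_smul]
  -- the skew hermitian form
  let S : V → V → F := fun u v => ∑ i, σ (d i ⬝ᵥ v) * (lam i * α i ⬝ᵥ u)
  have hSadd : ∀ u u' v, S (u + u') v = S u v + S u' v := fun u u' v => by
    simp only [S, dotProduct_add, mul_add, Finset.sum_add_distrib]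
  have hSsmul : ∀ (k : F) u v, S (k • u) v = k * S u v := fun k u v => by
    simp only [S, dotProduct_smul, smul_eq_mul, Finset.mul_sum]
    exact Finset.sum_congr rfl fun i _ => by ring
  have hSaddr : ∀ u v v', S u (v + v') = S u v + S u v' := fun u v v' => by
    simp only [S, dotProduct_add, map_add, add_mul, Finset.sum_add_distrib]
  have hSsmulr : ∀ (k : F) u v, S u (k • v) = σ k * S u v := fun k u v => by
    simp only [S, dotProduct_smul, smul_eq_mul, map_mul, Finset.mul_sum]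
    exact Finset.sum_congr rfl fun i _ => by ring
  have hSc : ∀ u j, S u (c j) = lam j * α j ⬝ᵥ u := fun u j => by
    simp only [S, hdual]
    simp [apply_ite σ]
  have hlin : ∀ u w, S u w = ∑ j, (d j ⬝ᵥ u) * S (c j) w := by
    intro u w
    simp only [S]
    rw [Finset.sum_congr rfl fun i _ => by rw [hdotexp (α i) u]]
    simp only [Finset.mul_sum]
    rw [Finset.sum_comm]
    exact Finset.sum_congr rfl fun j _ => Finset.sum_congr rfl fun i _ => by ring
  have hskewA : ∀ i j, σ (lam i * α i ⬝ᵥ c j) = -(lam j * α j ⬝ᵥ c i) := by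
    have s10 : σ (α 1 ⬝ᵥ c 0) = α 1 ⬝ᵥ c 0 := fix k10
    have s20 : σ (α 2 ⬝ᵥ c 0) = α 2 ⬝ᵥ c 0 := fix k20
    have m10 : α 1 ⬝ᵥ c 0 ≠ 0 := n10
    have m20 : α 2 ⬝ᵥ c 0 ≠ 0 := n20
    have s12 : σ (α 1 ⬝ᵥ c 2) = -(α 2 ⬝ᵥ c 1 * α 1 ⬝ᵥ c 0 / α 2 ⬝ᵥ c 0) := by
      show σ a12 = -(T' / a20)
      rw [e12, map_div₀, hT, fix k20, neg_div]
    have s21 : σ (α 2 ⬝ᵥ c 1) = -(α 1 ⬝ᵥ c 2 * α 2 ⬝ᵥ c 0 / α 1 ⬝ᵥ c 0) := by
      show σ a21 = -(T / a10)
      rw [e21, map_div₀, hT', fix k10, neg_div]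
    intro i j
    have hl : lam 1 = -(α 1 ⬝ᵥ c 0)⁻¹ ∧ lam 2 = -(α 2 ⬝ᵥ c 0)⁻¹ ∧ lam 0 = 1 := ⟨rfl, rfl, rfl⟩
    fin_cases i <;> fin_cases j <;>
      simp [hl, hd0, one1, one2, s10, s20, s12, s21, m10, m20] <;> field_simp
  have hexpr : ∀ u w, S u w = ∑ j, σ (d j ⬝ᵥ w) * S u (c j) := fun u w => by
    simp only [hSc]
    rfl
  have hskewc : ∀ j w, S (c j) w = -σ (S w (c j)) := by
    intro j w
    rw [hSc, hdotexp (α j) w, Finset.mul_sum, map_sum, ← Finset.sum_neg_distrib]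
    refine Finset.sum_congr rfl fun i _ => ?_
    have e := hskewA j i
    rw [map_mul] at e
    simp only [map_mul]
    linear_combination (σ (d i ⬝ᵥ w)) * e
  have hS0 : ∀ j, S (c j) (c j) = 0 := fun j => by rw [hSc, hd0, mul_zero]
  -- every transvection is rational and preserves the form
  have main : ∀ w χ : V, Root P w χ → ∀ s : G3, s.1 = 1 + vecMulVec w χ →
      ratPart c d L s.1 ∧ ∃ (w' : V) (μ : F), μ ∈ K ∧ S w' w' = 0 ∧
        ∀ u, s.1 *ᵥ u = u + (μ * S u w') • w' := by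
    intro w χ hw s hs
    obtain ⟨w', χ', hs', hwL, hχL, μ, hμ, hμ0, hrel⟩ : ∃ w' χ' : V, s.1 = 1 + vecMulVec w' χ' ∧
        (∀ k, α k ⬝ᵥ w' ∈ L) ∧ (∀ j, χ' ⬝ᵥ c j ∈ L) ∧ ∃ μ ∈ K, (μ ≠ 0 ∧ χ' ⬝ᵥ w' = 0) ∧
          ∀ j, χ' ⬝ᵥ c j = μ * S (c j) w' := by
      by_cases hv : α 0 ⬝ᵥ w = 0
      · obtain ⟨⟨k, hk⟩, m, hm⟩ := same_flag hK hP hL (hroot 0) hw (Or.inl hv)
        have hkm : k * m ∈ K := by
          have hmem : Mem P ((k * m) • c 0) (α 0) := by
            rw [mul_comm, ← smul_smul, ← hk, mem_smul_iff, ← hm]; exact hw.2.2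
          have : k * m ∈ rootSet P (c 0) (α 0) := hmem
          rwa [hK.roots _ _ (hroot 0)] at this
        have hkm0 : k * m ≠ 0 := mul_ne_zero (fun e => hw.1 (by rw [hk, e, zero_smul]))
          (fun e => hw.2.1 (by rw [hm, e, zero_smul]))
        refine ⟨c 0, (k * m) • α 0, ?_, fun i => hAL i 0, fun j => ?_, k * m, hkm,
          ⟨hkm0, by rw [smul_dotProduct, hd0, smul_zero]⟩, fun j => ?_⟩
        · rw [hs, hk, hm, smul_vmv, smul_smul]
        · rw [smul_dotProduct, smul_eq_mul]; exact L.mul_mem (hKL hkm) (hAL 0 j)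
        · rw [hSc, smul_dotProduct]
          simp [lam]
      · set b := α 0 ⬝ᵥ w
        have hw' : Root P (b⁻¹ • w) (b • χ) := root_scale hw hv
        have hv1 : α 0 ⬝ᵥ (b⁻¹ • w) = 1 := by rw [dotProduct_smul, smul_eq_mul, inv_mul_cancel₀ hv]
        have hse : s.1 = 1 + vecMulVec (b⁻¹ • w) (b • χ) := by
          rw [hs, smul_vmv, smul_smul, inv_mul_cancel₀ hv, one_smul]
        generalize b⁻¹ • w = w' at hw' hv1 hse
        generalize b • χ = χ' at hw' hse
        set u1 := χ' ⬝ᵥ c 0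
        have hu1 : u1 ∈ K := by
          have := hK.prods _ _ _ _ (hroot 0).2.2 hw'.2.2
          rwa [hv1, one_mul] at this
        have hu10 : u1 ≠ 0 := fun e => by
          obtain ⟨⟨k, hk⟩, -⟩ := same_flag hK hP hL (hroot 0) hw' (Or.inr e)
          rw [hk, dotProduct_smul, hd0, smul_zero] at hv1
          exact zero_ne_one hv1
        have rel : ∀ i, i ≠ (0 : Fin 3) →
            σ (u1 * (α i ⬝ᵥ w' / α i ⬝ᵥ c 0)) = -(χ' ⬝ᵥ c i) ∧
              σ (χ' ⬝ᵥ c i) = -(u1 * (α i ⬝ᵥ w' / α i ⬝ᵥ c 0)) :=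
          fun i hi => Δ.pair_rel hK hP hL σ hσ hw' hv1 hi
        have hlam_i : ∀ i, i ≠ (0 : Fin 3) → lam i = -(α i ⬝ᵥ c 0)⁻¹ := by
          intro i hi
          fin_cases i
          · exact absurd rfl hi
          · rfl
          · rfl
        refine ⟨w', χ', hse, fun k => ?_, fun j => ?_, -u1, K.neg_mem hu1,
          ⟨neg_ne_zero.2 hu10, hw'.2.2.dot hP⟩, fun j => ?_⟩
        · by_cases hk : k = 0
          · subst hk; rw [hv1]; exact L.one_mem
          obtain ⟨r1, r2⟩ := rel k hk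
          have : u1 * (α k ⬝ᵥ w' / α k ⬝ᵥ c 0) ∈ L := (hL' _).2 (by rw [r1, map_neg, r2, neg_neg])
          have h' := L.mul_mem (L.div_mem this (hKL hu1)) (hAL k 0)
          convert h' using 1
          have := hopp k 0 hk
          show α k ⬝ᵥ w' = _
          field_simp
          rfl
        · by_cases hj : j = 0
          · subst hj; exact hKL hu1
          obtain ⟨r1, r2⟩ := rel j hj
          exact (hL' _).2 (by rw [r2, map_neg, r1, neg_neg])
        · rw [hskewc, hSc]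
          by_cases hj : j = 0
          · subst hj; rw [hv1]; simp [lam, u1]
          obtain ⟨r1, -⟩ := rel j hj
          have e : σ (lam j * α j ⬝ᵥ w') = -σ (α j ⬝ᵥ w' / α j ⬝ᵥ c 0) := by
            rw [hlam_i j hj, ← map_neg]; congr 1; ring
          rw [map_mul, fix hu1] at r1
          rw [e]
          linear_combination r1
    refine ⟨?_, w', μ, hμ, ?_, fun u => ?_⟩
    · rw [hs']
      refine vmv_rat hdual fun i j => L.mul_mem ?_ (hχL j)
      rw [hdv]
      exact sum_mem fun k _ => L.mul_mem (hA'L i k) (hwL k)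
    · have := hdotexp χ' w'
      rw [hμ0.2] at this
      simp only [hrel, mul_left_comm _ μ] at this
      rw [← Finset.mul_sum, ← hlin] at this
      exact (mul_eq_zero.1 this.symm).resolve_left hμ0.1
    · rw [hs', one_add_mulVec, hdotexp χ' u]
      simp only [hrel, mul_left_comm _ μ]
      rw [← Finset.mul_sum, ← hlin]
  have hPR : P ≤ ratGroup hdual L :=
    le_of_roots hP (hroot 0) _ fun w χ hw s hs => (main w χ hw s hs).1
  have hDE : Matrix.of d * (Matrix.of c)ᵀ = 1 := mul_eq_one_comm.1 (dual_mul hdual)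
  let B : G3 := ⟨Matrix.of d, (Matrix.of c)ᵀ, hDE, dual_mul hdual⟩
  have hLtop : L = ⊤ := by
    by_contra hne
    refine hprim L hne ⟨B, ?_⟩
    rintro _ ⟨k, hk, rfl⟩ i j
    exact hPR hk i j
  have hσσ : ∀ t, σ (σ t) = t := fun t => (hL' t).1 (hLtop ▸ Subfield.mem_top t)
  have hskew : ∀ u v, S u v = -σ (S v u) := by
    intro u v
    rw [hlin u v, hexpr v u, map_sum, ← Finset.sum_neg_distrib]
    refine Finset.sum_congr rfl fun j _ => ?_
    rw [hskewc, map_mul, hσσ, mul_neg]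
  let τ : F ≃+* F := RingEquiv.ofBijective σ ⟨hσinj, fun t => ⟨σ t, hσσ t⟩⟩
  refine ⟨?_, τ, fun u v => (T + T') * S u v, ⟨?_, hσσ, ?_, ?_, ?_, ?_⟩, ?_⟩
  · have hpow : ∀ t : F, t ^ (p ^ (n + n)) = t := fun t => by
      have := hσσ t
      rwa [hσdef, iterateFrobenius_def, iterateFrobenius_def, ← pow_mul, ← pow_add] at this
    rw [hn, ← pow_mul, show n * 2 = n + n by ring]
    have h1 : 1 < p ^ (n + n) := Nat.one_lt_pow (by omega) (Fact.out : p.Prime).one_lt
    have hle := (Polynomial.card_roots' (Polynomial.X ^ (p ^ (n + n)) - Polynomial.X : Polynomial F))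
    rw [FiniteField.X_pow_card_sub_X_natDegree_eq F h1] at hle
    refine le_trans ?_ hle
    rw [← Finset.card_univ]
    refine le_trans (Finset.card_le_card (t := (Polynomial.X ^ (p ^ (n + n)) - Polynomial.X :
      Polynomial F).roots.toFinset) fun t _ => ?_) (Multiset.toFinset_card_le _)
    rw [Multiset.mem_toFinset, Polynomial.mem_roots (FiniteField.X_pow_card_sub_X_ne_zero F h1)]
    simp [hpow t]
  · intro e
    exact hTK ((hσ T).1 (RingEquiv.congr_fun e T))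
  · intro u u' v; simp only [hSadd]; ring
  · intro k u v; simp only [hSsmul]; ring
  · intro u v
    show (T + T') * S u v = σ ((T + T') * S v u)
    rw [hskew u v, map_mul, map_add, hT, hT']; ring
  · intro v hv
    have hex : ∃ j, S (c j) v ≠ 0 := by
      by_contra hne
      push Not at hne
      refine hv ?_
      have hz : ∀ j, α j ⬝ᵥ v = 0 := fun j => by
        have h0 := hne j
        rw [hskewc, neg_eq_zero, map_eq_zero, hSc, mul_eq_zero] at h0
        refine h0.resolve_left ?_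
        fin_cases j <;> simp [lam, n10, n20]
      rw [hexp v]
      refine Finset.sum_eq_zero fun j _ => ?_
      rw [hdv]
      simp [hz]
    obtain ⟨j, hj⟩ := hex
    refine ⟨⟨c j, mul_ne_zero hTT hj⟩, ⟨c j, mul_ne_zero hTT fun e => hj ?_⟩⟩
    rw [hskew, e, map_zero, neg_zero]
  · let R : Subgroup G3 :=
      { carrier := {g | ∀ u v, S (g.1 *ᵥ u) (g.1 *ᵥ v) = S u v}
        one_mem' := fun u v => by simp
        mul_mem' := fun {g g'} hg hg' u v => by
          show S ((g.1 * g'.1) *ᵥ u) ((g.1 * g'.1) *ᵥ v) = _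
          rw [← mulVec_mulVec, ← mulVec_mulVec, hg, hg']
        inv_mem' := fun {g} hg u v => by
          have := hg ((g⁻¹ : G3).1 *ᵥ u) ((g⁻¹ : G3).1 *ᵥ v)
          rw [mulVec_mulVec, mulVec_mulVec, Units.mul_inv, one_mulVec, one_mulVec] at this
          exact this.symm }
    have hPR' : P ≤ R := le_of_roots hP (hroot 0) R fun w χ hw s hs => by
      obtain ⟨-, w', μ, hμ, hw0, hact⟩ := main w χ hw s hs
      intro u v
      rw [hact, hact, hSadd, hSaddr, hSaddr, hSsmul, hSsmul, hSsmulr, hSsmulr, hw0, map_mul, fix hμ]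
      rw [hskew w' v]
      ring
    rintro _ ⟨g, hg, rfl⟩ u v
    show (T + T') * S _ _ = _
    rw [hPR' hg u v]

end CfsgLib.ResThree.Tv
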