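import Cfsg.Agent.Lib.MaxSub.ResThree.Tv.Plane

/-!
The frame of an opposite pair, and the icosahedral pair with product of square `-1`: it does not occur.
-/

set_option autoImplicit false
set_option linter.unusedSectionVars false

namespace CfsgLib.ResThree.Tv

open Matrix

variable {F : Type*} [Field F]

local notation "G3" => Matrix.GeneralLinearGroup (Fin 3) F
local notation "V" => Fin 3 → F

/-- An opposite pair and a vector on both axes give a basis. -/
theorem pair_indep {c y φ ψ : V} (h1 : φ ⬝ᵥ c = 0) (h2 : ψ ⬝ᵥ y = 0) (h3 : φ ⬝ᵥ y ≠ 0)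
    (h4 : ψ ⬝ᵥ c ≠ 0) {n : V} (hn : n ≠ 0) (n1 : φ ⬝ᵥ n = 0) (n2 : ψ ⬝ᵥ n = 0) :
    LinearIndependent F ![c, y, n] := by
  rw [Fintype.linearIndependent_iff]
  intro g hg
  simp only [Fin.sum_univ_three, Matrix.cons_val_zero, Matrix.cons_val_one, Matrix.cons_val] at hg
  have ea := congrArg (φ ⬝ᵥ ·) hg
  have eb := congrArg (ψ ⬝ᵥ ·) hg
  simp only [dotProduct_add, dotProduct_smul, h1, h2, n1, n2, smul_eq_mul, mul_zero, add_zero, zero_add,
    dotProduct_zero, mul_eq_zero] at ea eb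
  have g1 := ea.resolve_right h3
  have g0 := eb.resolve_right h4
  rw [g0, g1, zero_smul, zero_smul, zero_add, zero_add, smul_eq_zero] at hg
  intro i
  fin_cases i
  · exact g0
  · exact g1
  · exact hg.resolve_right hn

/-- Decomposition along an opposite pair. -/
theorem pair_frame {c y φ ψ : V} (h1 : φ ⬝ᵥ c = 0) (h2 : ψ ⬝ᵥ y = 0) (h3 : φ ⬝ᵥ y ≠ 0)
    (h4 : ψ ⬝ᵥ c ≠ 0) :
    ∃ n : V, n ≠ 0 ∧ φ ⬝ᵥ n = 0 ∧ ψ ⬝ᵥ n = 0 ∧
      ∀ v, ∃ r : F, v = (ψ ⬝ᵥ v / ψ ⬝ᵥ c) • c + (φ ⬝ᵥ v / φ ⬝ᵥ y) • y + r • n := by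
  let π : V → V := fun v => v - (ψ ⬝ᵥ v / ψ ⬝ᵥ c) • c - (φ ⬝ᵥ v / φ ⬝ᵥ y) • y
  have hπ : ∀ v, φ ⬝ᵥ π v = 0 ∧ ψ ⬝ᵥ π v = 0 := fun v => by
    simp only [π, dotProduct_sub, dotProduct_smul, h1, h2, smul_eq_mul, mul_zero, sub_zero,
      div_mul_cancel₀ _ h3, div_mul_cancel₀ _ h4, sub_self, and_self]
  obtain ⟨v0, hv0⟩ : ∃ v, π v ≠ 0 := by
    by_contra hne
    push Not at hne
    have hle : (⊤ : Submodule F V) ≤ Submodule.span F {c, y} := fun v _ => by
      rw [Submodule.mem_span_pair]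
      refine ⟨ψ ⬝ᵥ v / ψ ⬝ᵥ c, φ ⬝ᵥ v / φ ⬝ᵥ y, ?_⟩
      have := hne v
      simp only [π, sub_sub, sub_eq_zero] at this
      exact this.symm
    have h := Submodule.finrank_mono hle
    have hr : Set.range ![c, y] = ({c, y} : Set V) := by
      simp only [Matrix.range_cons, Matrix.range_empty, Set.union_empty, Set.singleton_union]
    have h' : Module.finrank F (Submodule.span F ({c, y} : Set V)) ≤ 2 := by
      have h'' : Set.finrank F (Set.range ![c, y]) ≤ Fintype.card (Fin 2) := finrank_range_le_card _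
      rw [hr, Fintype.card_fin] at h''
      exact h''
    rw [finrank_top, Module.finrank_fintype_fun_eq_card, Fintype.card_fin] at h
    omega
  refine ⟨π v0, hv0, (hπ v0).1, (hπ v0).2, fun v => ?_⟩
  have hli := pair_indep h1 h2 h3 h4 hv0 (hπ v0).1 (hπ v0).2
  let B := basisOfLinearIndependentOfCardEqFinrank hli (by simp)
  have hv : v = B.repr v 0 • c + B.repr v 1 • y + B.repr v 2 • π v0 := by
    conv_lhs => rw [← B.sum_repr v]
    simp [B, Fin.sum_univ_three]
  refine ⟨B.repr v 2, ?_⟩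
  have ea : φ ⬝ᵥ v = B.repr v 1 * φ ⬝ᵥ y := by
    conv_lhs => rw [hv]
    simp [dotProduct_add, dotProduct_smul, h1, (hπ v0).1]
  have eb : ψ ⬝ᵥ v = B.repr v 0 * ψ ⬝ᵥ c := by
    conv_lhs => rw [hv]
    simp [dotProduct_add, dotProduct_smul, h2, (hπ v0).2]
  rw [ea, eb, mul_div_cancel_right₀ _ h3, mul_div_cancel_right₀ _ h4]
  exact hv

/-- Nine fifth-power-fixed values of a binary form over the field with nine elements. -/
theorem square_of_fixed (h3 : (3 : F) = 0) {i w0 w1 b b' : F} (hi : i ^ 2 = -1)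
    (h : ∀ t ∈ ({1, -1, i, -i, 1 + i, -1 - i, 1 - i, -1 + i} : Set F),
      ((w1 - t * w0) * (b + t * b')) ^ 5 = (w1 - t * w0) * (b + t * b')) :
    w0 * b + w1 * b' = 0 := by
  set A := w1 * b with hA
  set M := w0 * b - w1 * b' with hM
  set C := w0 * b' with hC
  let g : F → F := fun t => (A - t * M - t ^ 2 * C) ^ 2
  have hg : ∀ t ∈ ({1, -1, i, -i, 1 + i, -1 - i, 1 - i, -1 + i} : Set F), g t ^ 3 = g t := by
    intro t ht
    have e : A - t * M - t ^ 2 * C = (w1 - t * w0) * (b + t * b') := by rw [hA, hM, hC]; ring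
    show ((A - t * M - t ^ 2 * C) ^ 2) ^ 3 = (A - t * M - t ^ 2 * C) ^ 2
    rw [e, ← pow_mul, show 2 * 3 = 5 + 1 from rfl, pow_succ, h t ht]
    ring
  have cube : ∀ x y : F, (x + y) ^ 3 = x ^ 3 + y ^ 3 := fun x y => by
    linear_combination (x ^ 2 * y + x * y ^ 2) * h3
  have cneg : ∀ x y : F, (x - y) ^ 3 = x ^ 3 - y ^ 3 := fun x y => by
    linear_combination (-x ^ 2 * y + x * y ^ 2) * h3
  set c2 := M ^ 2 - 2 * A * C with hc2
  have e1 : g 1 + g (-1) - (g i + g (-i)) = c2 := by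
    simp only [g, hc2]
    linear_combination (M ^ 2 - 2 * A * C) * h3 +
      (2 * C ^ 2 - 2 * M ^ 2 + 4 * A * C - 2 * C ^ 2 * i ^ 2) * hi
  have e2 : g (1 + i) + g (-1 - i) - (g (1 - i) + g (-1 + i)) = -i * c2 := by
    simp only [g, hc2]
    linear_combination (3 * i * (M ^ 2 - 2 * A * C)) * h3 + (16 * C ^ 2 * i) * hi
  have f1 : c2 ^ 3 = c2 := by
    conv_lhs => rw [← e1, cneg, cube, cube, hg 1 (by simp), hg (-1) (by simp), hg i (by simp),
      hg (-i) (by simp)]
    exact e1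
  have f2 : (-i * c2) ^ 3 = -i * c2 := by
    conv_lhs => rw [← e2, cneg, cube, cube, hg (1 + i) (by simp), hg (-1 - i) (by simp),
      hg (1 - i) (by simp), hg (-1 + i) (by simp)]
    exact e2
  have hi0 : i ≠ 0 := fun e => by rw [e] at hi; simp at hi
  have h2 : (2 : F) ≠ 0 := fun e => one_ne_zero (α := F) (by linear_combination h3 - e)
  have hc0 : c2 = 0 := by
    have : (2 * i) * c2 = 0 := by
      linear_combination f2 + (i * c2 ^ 3) * hi - i * f1
    exact (mul_eq_zero.1 this).resolve_left (mul_ne_zero h2 hi0)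
  refine eq_zero_of_pow_eq_zero (n := 2) ?_
  rw [hc2, hA, hM, hC] at hc0
  linear_combination hc0 + (2 * w0 * w1 * b * b') * h3

variable {P : Subgroup (Matrix.GeneralLinearGroup (Fin 3) F)}

/-- No opposite pair with product a square root of `-1` when all products are fifth-power-fixed. -/
theorem bad_pair [Finite F] (hP : Core P) (h3 : (3 : F) = 0)
    (hU : ∀ c φ y ψ : V, Mem P c φ → Mem P y ψ →
      (φ ⬝ᵥ y * ψ ⬝ᵥ c) ^ 5 = φ ⬝ᵥ y * ψ ⬝ᵥ c)
    {c φ y ψ : V} (hc : Mem P c φ) (hy : Mem P y ψ) (hφy : φ ⬝ᵥ y = 1) {i : F}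
    (hψc : ψ ⬝ᵥ c = i) (hi : i ^ 2 = -1) : False := by
  have hi0 : i ≠ 0 := fun e => by rw [e] at hi; simp at hi
  have h1 := hc.dot hP
  have h2 := hy.dot hP
  have h3' : φ ⬝ᵥ y ≠ 0 := by rw [hφy]; exact one_ne_zero
  have h4 : ψ ⬝ᵥ c ≠ 0 := by rw [hψc]; exact hi0
  obtain ⟨n, hn, n1, n2, hdec⟩ := pair_frame h1 h2 h3' h4
  have hz : ∀ (k : F), k = 1 ∨ k = -1 → ∀ {a η : V}, Mem P a η → Mem P (k • a) η := by
    rintro k (rfl | rfl) a η h
    · rwa [one_smul]
    · rw [neg_one_smul]; exact h.neg hP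
  -- a transvection moves the complement only if its axis contains it
  have key : ∀ w χ : V, Mem P w χ → χ ⬝ᵥ n = 0 ∨
      w = (ψ ⬝ᵥ w / i) • c + (φ ⬝ᵥ w) • y := by
    intro w χ hw
    obtain ⟨w0, hw0⟩ : ∃ x, x = ψ ⬝ᵥ w / i := ⟨_, rfl⟩
    have hψw : ψ ⬝ᵥ w = i * w0 := by rw [hw0, mul_div_cancel₀ _ hi0]
    set w1 := φ ⬝ᵥ w with hw1
    set b := χ ⬝ᵥ c with hb
    set b' := χ ⬝ᵥ y with hb'
    have up : ∀ {x : F}, (-i * x) ^ 5 = -i * x → x ^ 5 = x := fun {x} h => by
      refine mul_left_cancel₀ (neg_ne_zero.2 hi0) ?_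
      have hi4 : i ^ 4 = 1 := by linear_combination (i ^ 2 - 1) * hi
      linear_combination h + (i * x ^ 5) * hi4
    have hA : ∀ k : F, k = 1 ∨ k = -1 → ((w1 - k * w0) * (b + k * b')) ^ 5 = (w1 - k * w0) * (b + k * b') := by
      intro k hk
      have hk2 : k ^ 2 = 1 := by rcases hk with rfl | rfl <;> norm_num
      have := hU w χ _ _ hw ((hz k hk hc).conj hP hy)
      rw [dotProduct_add, dotProduct_smul, dotProduct_smul, hφy, dotProduct_smul, hψc, smul_eq_mul,
        smul_eq_mul, smul_eq_mul, ← hb, ← hb', one_mul, sub_dotProduct, smul_dotProduct, smul_eq_mul,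
        hψw, ← hw1] at this
      refine up ?_
      rw [show -i * ((w1 - k * w0) * (b + k * b')) = (b' + k * b) * (i * w0 - k * i * w1) by
        linear_combination (i * w0 * b' + i * w1 * b) * hk2]
      exact this
    have hB : ∀ k : F, k = 1 ∨ k = -1 → ((w1 - k * i * w0) * (b + k * i * b')) ^ 5 =
        (w1 - k * i * w0) * (b + k * i * b') := by
      intro k hk
      have := hU w χ _ _ hw ((hz k hk hy).conj hP hc)
      rw [dotProduct_add, dotProduct_smul, dotProduct_smul, hψc, dotProduct_smul, hφy, smul_eq_mul,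
        smul_eq_mul, smul_eq_mul, ← hb, ← hb', sub_dotProduct, smul_dotProduct, smul_eq_mul,
        hψw, ← hw1, mul_one] at this
      rw [show (w1 - k * i * w0) * (b + k * i * b') = (b + i * (k * b')) * (w1 - k * (i * w0)) by ring]
      exact this
    have hC : ∀ k j : F, (k = 1 ∨ k = -1) → (j = 1 ∨ j = -1) →
        ((w1 - (k + j * i) * w0) * (b + (k + j * i) * b')) ^ 5 =
          (w1 - (k + j * i) * w0) * (b + (k + j * i) * b') := by
      intro k j hk hj
      have hk2 : k ^ 2 = 1 := by rcases hk with rfl | rfl <;> norm_num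
      have := hU w χ _ _ hw ((hz j hj hy).conj hP ((hz k hk hc).conj hP hy))
      simp only [dotProduct_add, dotProduct_smul, sub_dotProduct, smul_dotProduct, hφy, hψc, h1, h2,
        ← hb, ← hb', hψw, ← hw1, smul_eq_mul, mul_zero, zero_mul, add_zero, zero_add, sub_zero,
        one_mul, mul_one] at this
      refine up ?_
      rw [show -i * ((w1 - (k + j * i) * w0) * (b + (k + j * i) * b')) =
        (b' + k * b + k * i * (j * b')) * (i * w0 - k * i * w1 - j * (0 - k * i) * (i * w0)) by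
        linear_combination (-(i * ((j ^ 2 * i ^ 2 - 1) * (w0 * b') + j * i * (w0 * b) -
          j * i * (w1 * b') - w1 * b))) * hk2]
      exact this
    have hz0 : w0 * b + w1 * b' = 0 := by
      refine square_of_fixed h3 hi fun t ht => ?_
      simp only [Set.mem_insert_iff, Set.mem_singleton_iff] at ht
      rcases ht with rfl | rfl | rfl | rfl | rfl | rfl | rfl | rfl
      · exact hA 1 (Or.inl rfl)
      · exact hA (-1) (Or.inr rfl)
      · simpa only [one_mul] using hB 1 (Or.inl rfl)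
      · simpa only [neg_one_mul] using hB (-1) (Or.inr rfl)
      · simpa only [one_mul] using hC 1 1 (Or.inl rfl) (Or.inl rfl)
      · simpa only [neg_one_mul, ← sub_eq_add_neg] using hC (-1) (-1) (Or.inr rfl) (Or.inr rfl)
      · simpa only [neg_one_mul, ← sub_eq_add_neg] using hC 1 (-1) (Or.inl rfl) (Or.inr rfl)
      · simpa only [one_mul] using hC (-1) 1 (Or.inr rfl) (Or.inl rfl)
    obtain ⟨r, hr⟩ := hdec w
    rw [hψc, hφy, div_one, ← hw0, ← hw1] at hr
    have h0 : r * χ ⬝ᵥ n = 0 := by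
      have := hw.dot hP
      rw [hr, dotProduct_add, dotProduct_add, dotProduct_smul, dotProduct_smul, dotProduct_smul,
        ← hb, ← hb', smul_eq_mul, smul_eq_mul, smul_eq_mul] at this
      linear_combination this - hz0
    rcases mul_eq_zero.1 h0 with h | h
    · rw [h, zero_smul, add_zero] at hr; exact Or.inr (by rw [← hw0]; exact hr)
    · exact Or.inl h
  have hroot : Root P c φ := ⟨fun e => h4 (by rw [e, dotProduct_zero]), fun e => h3' (by rw [e, zero_dotProduct]), hc⟩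
  -- a centre off the plane and an axis off the complement
  obtain ⟨g1, hg1, hw1n⟩ : ∃ g : G3, g ∈ P ∧ g.1 *ᵥ c ∉ Submodule.span F ({c, y} : Set V) := by
    refine exists_centre_not_mem hP hroot _ ?_ (u := c) (Submodule.subset_span (by simp)) hroot.1
    intro e
    have hli := pair_indep h1 h2 h3' h4 hn n1 n2
    have hmem : n ∈ Submodule.span F ({c, y} : Set V) := e ▸ Submodule.mem_top
    rw [Submodule.mem_span_pair] at hmem
    obtain ⟨s, t, hst⟩ := hmem
    have ea := congrArg (φ ⬝ᵥ ·) hst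
    have eb := congrArg (ψ ⬝ᵥ ·) hst
    simp [dotProduct_add, dotProduct_smul, h1, h2, n1, n2, hφy, hψc, hi0] at ea eb
    exact hn (by rw [← hst, ea, eb, zero_smul, zero_smul, add_zero])
  obtain ⟨g2, hg2, hχ2⟩ := exists_axis_ne hP hroot hn
  set w1 := g1.1 *ᵥ c
  set χ1 := φ ᵥ* (g1⁻¹ : G3).1
  set w2 := g2.1 *ᵥ c with hw2def
  set χ2 := φ ᵥ* (g2⁻¹ : G3).1
  have hm1 : Mem P w1 χ1 := hc.map hg1
  have hm2 : Mem P w2 χ2 := hc.map hg2
  have hplane : ∀ s t : F, s • c + t • y ∈ Submodule.span F ({c, y} : Set V) := fun s t =>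
    Submodule.mem_span_pair.2 ⟨s, t, rfl⟩
  have hχ1 : χ1 ⬝ᵥ n = 0 := (key _ _ hm1).resolve_right fun e => hw1n (e ▸ hplane _ _)
  -- the axis of the first kills every centre of the second kind
  have kill : ∀ a η : V, Mem P a η → η ⬝ᵥ n ≠ 0 → χ1 ⬝ᵥ a = 0 := by
    intro a η ha hη
    have hd := (key _ _ ha).resolve_left hη
    by_contra hne
    rcases key _ _ (ha.conj hP hm1) with h | h
    · rw [sub_dotProduct, smul_dotProduct, hχ1, zero_sub, neg_eq_zero, smul_eq_mul] at h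
      exact mul_ne_zero hne hη h
    · refine hw1n ?_
      have hmem : a ∈ Submodule.span F ({c, y} : Set V) := by rw [hd]; exact hplane _ _
      have hmem' : w1 + (η ⬝ᵥ w1) • a ∈ Submodule.span F ({c, y} : Set V) := by rw [h]; exact hplane _ _
      simpa using Submodule.sub_mem _ hmem' (Submodule.smul_mem _ (η ⬝ᵥ w1) hmem)
  have k0 := kill _ _ hm2 hχ2
  have k1 := kill _ _ (hc.conj hP hm2) (by
    rw [sub_dotProduct, smul_dotProduct, n1, smul_zero, sub_zero]; exact hχ2)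
  have k2 := kill _ _ (hy.conj hP hm2) (by
    rw [sub_dotProduct, smul_dotProduct, n2, smul_zero, sub_zero]; exact hχ2)
  rw [dotProduct_add, k0, zero_add, dotProduct_smul, smul_eq_mul] at k1 k2
  have hd := (key _ _ hm2).resolve_left hχ2
  have hd0 := congrArg (χ1 ⬝ᵥ ·) hd
  simp only [dotProduct_add, dotProduct_smul, smul_eq_mul, k0] at hd0
  have hne2 : φ ⬝ᵥ w2 ≠ 0 ∨ ψ ⬝ᵥ w2 ≠ 0 := by
    by_contra h
    push Not at h
    rw [h.1, h.2, zero_div, zero_smul, zero_smul, add_zero] at hd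
    exact (hroot.map hg2).1 hd
  have hcy : χ1 ⬝ᵥ c = 0 ∧ χ1 ⬝ᵥ y = 0 := by
    by_cases hp : φ ⬝ᵥ w2 = 0
    · have hq := hne2.resolve_left (fun h => h hp)
      refine ⟨?_, (mul_eq_zero.1 k2).resolve_left hq⟩
      rw [hp, zero_mul, add_zero] at hd0
      exact (mul_eq_zero.1 hd0.symm).resolve_left (div_ne_zero hq hi0)
    · refine ⟨(mul_eq_zero.1 k1).resolve_left hp, ?_⟩
      rw [(mul_eq_zero.1 k1).resolve_left hp, mul_zero, zero_add] at hd0
      exact (mul_eq_zero.1 hd0.symm).resolve_left hp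
  refine (hroot.map hg1).2.1 (dotProduct_eq_zero _ fun v => ?_)
  obtain ⟨r, hr⟩ := hdec v
  rw [hr, dotProduct_add, dotProduct_add, dotProduct_smul, dotProduct_smul, dotProduct_smul, hcy.1,
    hcy.2, hχ1]
  simp

end CfsgLib.ResThree.Tv
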