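import Cfsg.Agent.Lib.MaxSub.ResThree.Setup

/-!
The transvections of a subgroup of `GL₃`: centres, axes, conjugation, root groups and connectedness.
-/

set_option autoImplicit false
set_option linter.unusedSectionVars false

namespace CfsgLib.ResThree.Tv

open Matrix

variable {F : Type*} [Field F]

local notation "G3" => Matrix.GeneralLinearGroup (Fin 3) F
local notation "V" => Fin 3 → F
local notation "M3" => Matrix (Fin 3) (Fin 3) F

/-- The matrix `1 + c ⊗ φ` lies in `P`. -/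
def Mem (P : Subgroup G3) (c φ : V) : Prop := ∃ g ∈ P, g.1 = 1 + vecMulVec c φ

/-- A non-trivial member `1 + c ⊗ φ`. -/
def Root (P : Subgroup G3) (c φ : V) : Prop := c ≠ 0 ∧ φ ≠ 0 ∧ Mem P c φ

/-- The root group at a flag. -/
def rootSet (P : Subgroup G3) (c φ : V) : Set F := {t | Mem P (t • c) φ}

theorem smul_vmv (t : F) (c φ : V) : vecMulVec (t • c) φ = vecMulVec c (t • φ) := by
  ext i j
  simp only [vecMulVec_apply, Pi.smul_apply, smul_eq_mul]
  ring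

theorem vmv_mulVec (c φ v : V) : vecMulVec c φ *ᵥ v = (φ ⬝ᵥ v) • c := by
  ext i
  rw [vecMulVec_mulVec, Pi.smul_apply, Pi.smul_apply, MulOpposite.smul_eq_mul_unop,
    MulOpposite.unop_op, smul_eq_mul, mul_comm]

theorem one_add_mulVec (c φ v : V) : (1 + vecMulVec c φ : M3) *ᵥ v = v + (φ ⬝ᵥ v) • c := by
  rw [add_mulVec, one_mulVec, vmv_mulVec]

theorem vecMul_one_add (c φ η : V) : η ᵥ* (1 + vecMulVec c φ : M3) = η + (η ⬝ᵥ c) • φ := by
  rw [vecMul_add, vecMul_one, vecMul_vecMulVec]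

variable {P : Subgroup (Matrix.GeneralLinearGroup (Fin 3) F)} {c φ y ψ : Fin 3 → F}

theorem mem_zero (φ : V) : Mem P 0 φ := ⟨1, P.one_mem, by simp⟩

theorem mem_zero_axis (c : V) : Mem P c 0 := ⟨1, P.one_mem, by simp⟩

theorem mem_smul_iff (t : F) : Mem P (t • c) φ ↔ Mem P c (t • φ) := by
  simp only [Mem, smul_vmv]

theorem Mem.dot (hP : Core P) (h : Mem P c φ) : φ ⬝ᵥ c = 0 := by
  obtain ⟨g, hg, e⟩ := h
  have hd := hP.det_eq hg
  rw [e, vecMulVec_eq Unit, det_one_add_replicateCol_mul_replicateRow] at hd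
  exact add_left_cancel (hd.trans (add_zero 1).symm)

theorem Mem.root_dot (hP : Core P) (h : Root P c φ) : φ ⬝ᵥ c = 0 := h.2.2.dot hP

theorem one_add_mul {c c' : V} {φ φ' : V} (h : φ ⬝ᵥ c' = 0) :
    (1 + vecMulVec c φ : M3) * (1 + vecMulVec c' φ') = 1 + vecMulVec c φ + vecMulVec c' φ' := by
  rw [mul_add, mul_one, add_mul, one_mul, vecMulVec_mul_vecMulVec, h, zero_smul, vecMulVec_zero, add_zero]

theorem Mem.add_centre {c' : V} (hP : Core P) (h : Mem P c φ) (h' : Mem P c' φ) :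
    Mem P (c + c') φ := by
  obtain ⟨g, hg, e⟩ := h
  have h0 := h'.dot hP
  obtain ⟨g', hg', e'⟩ := h'
  exact ⟨g * g', P.mul_mem hg hg', by rw [Units.val_mul, e, e', one_add_mul h0, add_vecMulVec, add_assoc]⟩

theorem Mem.add_axis {φ' : V} (hP : Core P) (h : Mem P c φ) (h' : Mem P c φ') :
    Mem P c (φ + φ') := by
  have h0 := h.dot hP
  obtain ⟨g, hg, e⟩ := h
  obtain ⟨g', hg', e'⟩ := h'
  exact ⟨g * g', P.mul_mem hg hg', by rw [Units.val_mul, e, e', one_add_mul h0, vecMulVec_add, add_assoc]⟩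

theorem Mem.neg (hP : Core P) (h : Mem P c φ) : Mem P (-c) φ := by
  have h0 := h.dot hP
  obtain ⟨g, hg, e⟩ := h
  refine ⟨g⁻¹, P.inv_mem hg, ?_⟩
  rw [Matrix.coe_units_inv]
  refine Matrix.inv_eq_right_inv ?_
  rw [e, one_add_mul (by rw [dotProduct_neg, h0, neg_zero]), neg_vecMulVec, add_assoc, add_neg_cancel,
    add_zero]

theorem Mem.neg_axis (hP : Core P) (h : Mem P c φ) : Mem P c (-φ) := by
  rw [← neg_one_smul F φ, ← mem_smul_iff, neg_one_smul]
  exact h.neg hP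

theorem Mem.zsmul (hP : Core P) (h : Mem P c φ) (n : ℕ) : Mem P ((n : F) • c) φ := by
  induction n with
  | zero => rw [Nat.cast_zero, zero_smul]; exact mem_zero φ
  | succ n ih => rw [Nat.cast_succ, add_smul, one_smul]; exact ih.add_centre hP h

/-- Conjugation by a member. -/
theorem Mem.map (h : Mem P c φ) {g : G3} (hg : g ∈ P) :
    Mem P (g.1 *ᵥ c) (φ ᵥ* (g⁻¹ : G3).1) := by
  obtain ⟨k, hk, e⟩ := h
  refine ⟨g * k * g⁻¹, P.mul_mem (P.mul_mem hg hk) (P.inv_mem hg), ?_⟩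
  rw [Units.val_mul, Units.val_mul, e, mul_add, mul_one, add_mul, mul_vecMulVec, vecMulVec_mul,
    Units.mul_inv]

/-- Conjugation by another member `1 + c ⊗ φ`. -/
theorem Mem.conj (hP : Core P) (h : Mem P c φ) (h' : Mem P y ψ) :
    Mem P (y + (φ ⬝ᵥ y) • c) (ψ - (ψ ⬝ᵥ c) • φ) := by
  obtain ⟨g', hg', e'⟩ := h.neg hP
  have h0 := h.dot hP
  obtain ⟨g, hg, e⟩ := h
  have hinv : (g⁻¹ : G3) = g' := by
    refine inv_eq_of_mul_eq_one_right (Units.ext ?_)
    rw [Units.val_mul, e, e', one_add_mul (by rw [dotProduct_neg, h0, neg_zero]), neg_vecMulVec,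
      add_assoc, add_neg_cancel, add_zero, Units.val_one]
  have := h'.map hg
  rw [hinv, e, e', one_add_mulVec, vecMul_one_add, dotProduct_neg, neg_smul] at this
  rwa [sub_eq_add_neg]

theorem Root.ne_scalar (hP : Core P) (h : Root P c φ) {g : G3} (e : g.1 = 1 + vecMulVec c φ) :
    g ∉ Cfsg.Geo.scalars (Fin 3) F := by
  intro hs
  obtain ⟨a, ha⟩ := (Cfsg.Geo.mem_scalars_iff g).1 hs
  obtain ⟨hc, hφ, hm⟩ := h
  obtain ⟨i, hi⟩ := Function.ne_iff.1 hc
  obtain ⟨j, hj⟩ := Function.ne_iff.1 hφ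
  have h0 := hm.dot hP
  have hv : ∀ v, (φ ⬝ᵥ v) • c = ((a : F) - 1) • v := fun v => by
    rw [← vmv_mulVec, show vecMulVec c φ = ((a : F) - 1) • (1 : M3) from by
      rw [sub_smul, one_smul, ← ha, e, add_sub_cancel_left], smul_mulVec, one_mulVec]
  have ha1 : (a : F) - 1 = 0 := by
    have := congrFun (hv c) i
    rw [h0, zero_smul, Pi.smul_apply, Pi.zero_apply, smul_eq_mul] at this
    exact (mul_eq_zero.1 this.symm).resolve_right hi
  have := congrFun (hv (Pi.single j 1)) i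
  rw [ha1, zero_smul, dotProduct_single, mul_one, Pi.smul_apply, Pi.zero_apply, smul_eq_mul] at this
  exact mul_ne_zero hj hi this

/-- A subspace preserved by a whole class of transvections is trivial. -/
theorem invariant_cases [Finite F] (hP : Core P) {c φ : V} (h : Root P c φ) (W : Submodule F V)
    (hW : ∀ g ∈ P, ∀ v ∈ W, ((φ ᵥ* (g⁻¹ : G3).1) ⬝ᵥ v) • (g.1 *ᵥ c) ∈ W) : W = ⊥ ∨ W = ⊤ := by
  refine hP.absIrred.1 W ?_
  obtain ⟨r, hr, e⟩ := h.2.2
  let K : Subgroup P := Subgroup.closure {k : P | ∃ g ∈ P, k.1.1 = 1 + vecMulVec (g.1 *ᵥ c) (φ ᵥ* (g⁻¹ : G3).1)}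
  have hK : ∀ k ∈ K, (∀ v ∈ W, k.1.1 *ᵥ v ∈ W) ∧ ∀ v ∈ W, ((k⁻¹ : P) : G3).1 *ᵥ v ∈ W := by
    intro k hk
    refine Subgroup.closure_induction (p := fun k _ => (∀ v ∈ W, k.1.1 *ᵥ v ∈ W) ∧
      ∀ v ∈ W, ((k⁻¹ : P) : G3).1 *ᵥ v ∈ W) ?_ ?_ ?_ ?_ hk
    · rintro k ⟨g, hg, hk⟩
      have h1 : ∀ v ∈ W, k.1.1 *ᵥ v ∈ W := fun v hv => by
        rw [hk, one_add_mulVec]; exact W.add_mem hv (hW g hg v hv)
      refine ⟨h1, fun v hv => ?_⟩
      have hd : (φ ᵥ* (g⁻¹ : G3).1) ⬝ᵥ (g.1 *ᵥ c) = 0 :=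
        Mem.dot hP ⟨k.1, k.2, hk⟩
      have : k.1.1 *ᵥ (v - ((φ ᵥ* (g⁻¹ : G3).1) ⬝ᵥ v) • (g.1 *ᵥ c)) = v := by
        rw [hk, one_add_mulVec, dotProduct_sub, dotProduct_smul, hd, smul_zero, sub_zero, sub_add_cancel]
      have e' := congrArg (((k⁻¹ : P) : G3).1 *ᵥ ·) this
      simp only [mulVec_mulVec, ← Units.val_mul, ← Subgroup.coe_mul, inv_mul_cancel, Subgroup.coe_one,
        Units.val_one, one_mulVec] at e'
      rw [← e']
      exact W.sub_mem hv (hW g hg v hv)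
    · simp
    · intro a b _ _ ha hb
      refine ⟨fun v hv => ?_, fun v hv => ?_⟩
      · rw [Subgroup.coe_mul, Units.val_mul, ← mulVec_mulVec]; exact ha.1 _ (hb.1 v hv)
      · rw [_root_.mul_inv_rev, Subgroup.coe_mul, Units.val_mul, ← mulVec_mulVec]; exact hb.2 _ (ha.2 v hv)
    · intro a _ ha
      exact ⟨ha.2, by rw [inv_inv]; exact ha.1⟩
  have hn : K.Normal := ⟨fun k hk g => by
    refine Subgroup.closure_induction (p := fun k _ => g * k * g⁻¹ ∈ K) ?_ ?_ ?_ ?_ hk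
    · rintro k ⟨a, ha, hk⟩
      refine Subgroup.subset_closure ⟨g.1 * a, P.mul_mem g.2 ha, ?_⟩
      show ((g : G3) * k.1 * (g : G3)⁻¹).1 = _
      rw [Units.val_mul, Units.val_mul, hk, mul_add, mul_one, add_mul, mul_vecMulVec, vecMulVec_mul,
        Units.mul_inv, _root_.mul_inv_rev, Units.val_mul, Units.val_mul, mulVec_mulVec, vecMul_vecMul]
    · rw [mul_one, mul_inv_cancel]; exact K.one_mem
    · intro a b _ _ ha hb
      rw [show g * (a * b) * g⁻¹ = g * a * g⁻¹ * (g * b * g⁻¹) by group]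
      exact K.mul_mem ha hb
    · intro a _ ha
      rw [show g * a⁻¹ * g⁻¹ = (g * a * g⁻¹)⁻¹ by group]
      exact K.inv_mem ha⟩
  have hr' : (⟨r, hr⟩ : P) ∈ K := Subgroup.subset_closure ⟨1, P.one_mem, by
    simpa using e⟩
  have htop : K = ⊤ := (hP.normal_cases K).resolve_left fun hle => h.ne_scalar hP e (hle hr')
  rintro _ ⟨g, hg, rfl⟩
  rintro _ ⟨v, hv, rfl⟩
  rw [Matrix.toLin'_apply]
  exact (hK ⟨g, hg⟩ (htop ▸ Subgroup.mem_top _)).1 v hv

theorem Root.map (h : Root P c φ) {g : G3} (hg : g ∈ P) :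
    Root P (g.1 *ᵥ c) (φ ᵥ* (g⁻¹ : G3).1) := by
  refine ⟨fun e => h.1 ?_, fun e => h.2.1 ?_, h.2.2.map hg⟩
  · rw [← one_mulVec c, ← Units.val_one, ← inv_mul_cancel g, Units.val_mul, ← mulVec_mulVec, e, mulVec_zero]
  · rw [← vecMul_one φ, ← Units.val_one, ← inv_mul_cancel g, Units.val_mul, ← vecMul_vecMul, e, zero_vecMul]

theorem vecMul_map_dot (φ v : V) (g : G3) : (φ ᵥ* (g⁻¹ : G3).1) ⬝ᵥ (g.1 *ᵥ v) = φ ⬝ᵥ v := by
  rw [← dotProduct_mulVec, mulVec_mulVec, Units.inv_mul, one_mulVec]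

/-- Some conjugate has its centre outside a proper subspace. -/
theorem exists_centre_not_mem [Finite F] (hP : Core P) (h : Root P c φ) (W : Submodule F V) (hW : W ≠ ⊤)
    {u : V} (hu : u ∈ W) (hu0 : u ≠ 0) : ∃ g : G3, g ∈ P ∧ g.1 *ᵥ c ∉ W := by
  by_contra hne
  push Not at hne
  rcases invariant_cases hP h W (fun g hg v _ => W.smul_mem _ (hne g hg)) with e | e
  · rw [e, Submodule.mem_bot] at hu; exact hu0 hu
  · exact hW e

/-- Some conjugate has an axis missing a given vector. -/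
theorem exists_axis_ne [Finite F] (hP : Core P) (h : Root P c φ) {n : V} (hn : n ≠ 0) :
    ∃ g ∈ P, (φ ᵥ* (g⁻¹ : G3).1) ⬝ᵥ n ≠ 0 := by
  by_contra hne
  push Not at hne
  rcases invariant_cases hP h (Submodule.span F {n}) (fun g hg v hv => by
    obtain ⟨a, rfl⟩ := Submodule.mem_span_singleton.1 hv
    rw [dotProduct_smul, hne g hg, smul_zero, zero_smul]
    exact Submodule.zero_mem _) with e | e
  · exact hn (by simpa using e)
  · have := congrArg (fun W : Submodule F V => Module.finrank F W) e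
    simp only [finrank_span_singleton hn, finrank_top, Module.finrank_fintype_fun_eq_card,
      Fintype.card_fin] at this
    omega

/-- Two functionals with a common kernel plane are proportional. -/
theorem prop_of_kills {φ ψ : V} {a b : V} (hab : LinearIndependent F ![a, b]) (hφ : φ ≠ 0)
    (h1 : φ ⬝ᵥ a = 0) (h2 : φ ⬝ᵥ b = 0) (h3 : ψ ⬝ᵥ a = 0) (h4 : ψ ⬝ᵥ b = 0) :
    ∃ k : F, ψ = k • φ := by
  obtain ⟨j, hj⟩ := Function.ne_iff.1 hφ
  have hj' : φ j ≠ 0 := hj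
  set z : V := Pi.single j 1
  have hz : φ ⬝ᵥ z = φ j := by rw [dotProduct_single, mul_one]
  have hli : LinearIndependent F ![z, a, b] := by
    rw [linearIndependent_fin_succ]
    refine ⟨by simpa using hab, ?_⟩
    intro hmem
    simp only [Matrix.cons_val_zero, Matrix.tail_cons] at hmem
    have hr : Set.range (Fin.tail ![z, a, b]) = {a, b} := by
      rw [show Fin.tail ![z, a, b] = ![a, b] from rfl]
      simp only [Matrix.range_cons, Matrix.range_empty, Set.union_empty, Set.singleton_union]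
    rw [hr, Submodule.mem_span_pair] at hmem
    obtain ⟨s, t, e⟩ := hmem
    rw [← e, dotProduct_add, dotProduct_smul, dotProduct_smul, h1, h2, smul_zero, smul_zero,
      add_zero] at hz
    exact hj' hz.symm
  refine ⟨ψ ⬝ᵥ z / φ j, ?_⟩
  let B := basisOfLinearIndependentOfCardEqFinrank hli (by simp)
  refine dotProduct_eq _ _ fun v => ?_
  conv_lhs => rw [← B.sum_repr v]
  conv_rhs => rw [← B.sum_repr v]
  simp only [dotProduct_sum, dotProduct_smul, B, coe_basisOfLinearIndependentOfCardEqFinrank,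
    Fin.sum_univ_three, Matrix.cons_val_zero, Matrix.cons_val_one, Matrix.cons_val, smul_dotProduct,
    dotProduct_add, h1, h2, h3, h4, hz, smul_eq_mul, mul_zero, add_zero]
  field_simp

/-- Every class of transvections has a member opposite to a given transvection. -/
theorem connected [Finite F] (hP : Core P) (hs : Root P c φ) (hr : Root P y ψ) :
    ∃ g ∈ P, φ ⬝ᵥ (g.1 *ᵥ y) ≠ 0 ∧ (ψ ᵥ* (g⁻¹ : G3).1) ⬝ᵥ c ≠ 0 := by
  by_contra hne
  push Not at hne
  -- conjugates of the second by the second class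
  have hcl : ∀ a ∈ P, ∀ b ∈ P, (ψ ᵥ* (a⁻¹ : G3).1) ⬝ᵥ (b.1 *ᵥ y) ≠ 0 →
      φ ⬝ᵥ (b.1 *ᵥ y + ((ψ ᵥ* (a⁻¹ : G3).1) ⬝ᵥ (b.1 *ᵥ y)) • (a.1 *ᵥ y)) = 0 ∨
        (ψ ᵥ* (b⁻¹ : G3).1 - ((ψ ᵥ* (b⁻¹ : G3).1) ⬝ᵥ (a.1 *ᵥ y)) • (ψ ᵥ* (a⁻¹ : G3).1)) ⬝ᵥ c = 0 := by
    intro a ha b hb _
    obtain ⟨k, hk, e⟩ := hr.2.2.map ha
    have hk' : (k⁻¹ : G3).1 = 1 - vecMulVec (a.1 *ᵥ y) (ψ ᵥ* (a⁻¹ : G3).1) := by
      rw [Matrix.coe_units_inv]
      refine Matrix.inv_eq_right_inv ?_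
      rw [e, sub_eq_add_neg, ← neg_vecMulVec, one_add_mul, neg_vecMulVec, add_assoc, add_neg_cancel,
        add_zero]
      rw [dotProduct_neg, (hr.2.2.map ha).dot hP, neg_zero]
    have hm := hne (k * b) (P.mul_mem hk hb)
    rw [or_iff_not_imp_left]
    intro h1
    have := hm (by rwa [Units.val_mul, ← mulVec_mulVec, e, one_add_mulVec])
    rwa [_root_.mul_inv_rev, Units.val_mul, ← vecMul_vecMul, hk', vecMul_sub, vecMul_one,
      vecMul_vecMulVec] at this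
  obtain ⟨a, ha, ha'⟩ : ∃ g ∈ P, φ ⬝ᵥ (g.1 *ᵥ y) ≠ 0 := by
    let L : V →ₗ[F] F := { toFun := fun v => φ ⬝ᵥ v, map_add' := dotProduct_add φ,
                           map_smul' := fun t v => by simp [dotProduct_smul] }
    have hW : LinearMap.ker L ≠ ⊤ := fun e => hs.2.1 (dotProduct_eq_zero _ fun v => by
      have : v ∈ LinearMap.ker L := e ▸ Submodule.mem_top
      exact this)
    obtain ⟨g, hg, hg'⟩ := exists_centre_not_mem hP hr _ hW (u := c) (hs.2.2.dot hP) hs.1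
    exact ⟨g, hg, hg'⟩
  obtain ⟨b, hb, hb'⟩ := exists_axis_ne hP hr hs.1
  set y2 := a.1 *ᵥ y
  set ψ2 := ψ ᵥ* (a⁻¹ : G3).1
  set y1 := b.1 *ᵥ y
  set ψ1 := ψ ᵥ* (b⁻¹ : G3).1
  have e2 : ψ2 ⬝ᵥ c = 0 := hne a ha ha'
  have e1 : φ ⬝ᵥ y1 = 0 := by
    by_contra h
    exact hb' (hne b hb h)
  have e12 : ψ2 ⬝ᵥ y1 = 0 := by
    by_contra h
    rcases hcl a ha b hb h with h' | h'
    · rw [dotProduct_add, dotProduct_smul, e1, zero_add, smul_eq_mul] at h'
      exact mul_ne_zero h ha' h'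
    · rw [sub_dotProduct, smul_dotProduct, e2, smul_zero, sub_zero] at h'
      exact hb' h'
  have hli : LinearIndependent F ![c, y1] := by
    rw [LinearIndependent.pair_iff' hs.1]
    intro t ht
    have h0 := (hr.2.2.map hb).dot hP
    change ψ1 ⬝ᵥ y1 = 0 at h0
    rw [← ht, dotProduct_smul, smul_eq_mul] at h0
    rcases mul_eq_zero.1 h0 with h | h
    · exact (hr.map hb).1 (show y1 = 0 by rw [← ht, h, zero_smul])
    · exact hb' h
  obtain ⟨k, hk⟩ := prop_of_kills hli hs.2.1 (hs.2.2.dot hP) e1 e2 e12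
  have h0 := (hr.2.2.map ha).dot hP
  change ψ2 ⬝ᵥ y2 = 0 at h0
  rw [hk, smul_dotProduct, smul_eq_mul] at h0
  rcases mul_eq_zero.1 h0 with h | h
  · exact (hr.map ha).2.1 (show ψ2 = 0 by rw [hk, h, zero_smul])
  · exact ha' h

/-- Root sets are the same for conjugate flags. -/
theorem rootSet_map {g : G3} (hg : g ∈ P) :
    rootSet P (g.1 *ᵥ c) (φ ᵥ* (g⁻¹ : G3).1) = rootSet P c φ := by
  ext t
  refine ⟨fun h => ?_, fun h => ?_⟩
  · have h' := Mem.map h (P.inv_mem hg)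
    rwa [inv_inv, mulVec_smul, mulVec_mulVec, Units.inv_mul, one_mulVec, vecMul_vecMul, Units.inv_mul,
      vecMul_one] at h'
  · show Mem P _ _
    have h' := Mem.map h hg
    rwa [mulVec_smul] at h'

theorem rootSet_add (hP : Core P) {s t : F} (hs : s ∈ rootSet P c φ) (ht : t ∈ rootSet P c φ) :
    s + t ∈ rootSet P c φ := by
  show Mem P _ _
  rw [add_smul]
  exact Mem.add_centre hP hs ht

theorem rootSet_neg (hP : Core P) {s : F} (hs : s ∈ rootSet P c φ) : -s ∈ rootSet P c φ := by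
  show Mem P _ _
  rw [neg_smul]
  exact Mem.neg hP hs

end CfsgLib.ResThree.Tv
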