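import Cfsg.Agent.Lib.DicksonFull.Main
import Cfsg.Agent.Lib.DicksonFull.Subgroups
import Cfsg.Agent.Lib.Dickson.Main

/-!
Subgroups of `SL₂(q)` with an upper and a lower unipotent element and at least three upper ones: the
parameters form a scaled subfield, apart from the icosahedral case in characteristic three.
-/

set_option autoImplicit false
set_option linter.unusedSectionVars false
set_option maxHeartbeats 800000

namespace CfsgLib.ResThree.Tv

open Matrix CfsgLib.Dickson CfsgLib.DicksonFull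

variable {F : Type*} [Field F] [Fintype F] (p : ℕ) [Fact p.Prime] [CharP F p]

local notation "SL" => Matrix.SpecialLinearGroup (Fin 2) F
local notation "PSL" => Matrix.ProjectiveSpecialLinearGroup (Fin 2) F

/-- Only one divisor of `Q² - 1` is `1 + kQ` with `k` positive. -/
theorem eq_succ_of_dvd {Q k n : ℕ} (hQ : 2 ≤ Q) (hk : 0 < k) (hn : n = Q * k + 1) (hd : n ∣ Q ^ 2 - 1) :
    n = Q + 1 := by
  obtain ⟨m, hm⟩ := hd
  have hQ2 : 1 ≤ Q ^ 2 := Nat.one_le_pow _ _ (by omega)
  have h1 : n * m + 1 = Q ^ 2 := by omega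
  have hdvd : Q ∣ m + 1 := by
    have e : Q * (k * m) + (m + 1) = Q * Q := by rw [← sq, ← h1, hn]; ring
    exact (Nat.dvd_add_right (Dvd.intro _ rfl)).1 (e ▸ Dvd.intro _ rfl)
  have hm1 : Q ≤ m + 1 := Nat.le_of_dvd (by omega) hdvd
  by_contra hne
  have hk2 : 2 ≤ k := by
    rcases Nat.lt_or_ge k 2 with h | h
    · exact absurd (by rw [hn, show k = 1 by omega, mul_one]) hne
    · exact h
  have : (2 * Q + 1) * (Q - 1) ≤ n * m := Nat.mul_le_mul (by rw [hn]; nlinarith) (by omega)
  obtain ⟨r, rfl⟩ : ∃ r, Q = r + 2 := ⟨Q - 2, by omega⟩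
  have e1 : r + 2 - 1 = r + 1 := rfl
  rw [e1] at this
  nlinarith

/-- The upper unipotents form a Sylow subgroup. -/
theorem uG_sylow (G : Subgroup SL) {b : F} (hb : b ≠ 0) (hbG : up b ∈ G) :
    ∃ S : Sylow p G, (S : Subgroup G) = uG G := by
  have hexp : ∀ g : uG G, (g : G) ^ p = 1 := fun g => by
    obtain ⟨t, ht⟩ := g.2
    refine Subtype.ext ?_
    rw [SubmonoidClass.coe_pow, show ((g : G) : SL) = up t from ht, up_pow, CharP.cast_eq_zero,
      zero_mul, up_zero]
    rfl
  have hU : IsPGroup p (uG G) := fun g => ⟨1, by rw [pow_one]; exact Subtype.ext (hexp g)⟩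
  obtain ⟨S, hS⟩ := hU.exists_le_sylow
  refine ⟨S, le_antisymm ?_ hS⟩
  by_contra hne
  have : Fintype G := Fintype.ofFinite _
  have hlt : uG G < (S : Subgroup G) := lt_of_le_not_ge hS hne
  have hnil : Group.IsNilpotent (S : Subgroup G) := S.2.isNilpotent
  have hN := Group.normalizerCondition_of_isNilpotent (H := (uG G).subgroupOf S)
    (lt_top_iff_ne_top.2 fun e => hne (fun x hx => by
      have : (⟨x, hx⟩ : (S : Subgroup G)) ∈ (uG G).subgroupOf S := e ▸ Subgroup.mem_top _
      exact this))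
  obtain ⟨g, hg, hgU⟩ := SetLike.exists_of_lt hN
  apply hgU
  let u : G := ⟨up b, hbG⟩
  have huU : u ∈ uG G := ⟨b, rfl⟩
  have hu1 : u ≠ 1 := fun e => hb (by
    have := congrArg (fun x : G => (x : SL).1 0 1) e
    simpa [u] using this)
  have hc := (Subgroup.mem_normalizer_iff.1 hg ⟨u, hS huU⟩).1 huU
  have hgn : (g : G) ∈ nG G := mem_nG_of_conj huU hu1 hc
  obtain ⟨k, hk⟩ := S.2 g
  have h00 : ((g : G) : SL).1 0 0 = 1 := by
    have h : diagHom G ⟨g, hgn⟩ ^ p ^ k = 1 := by
      rw [← map_pow, show (⟨(g : G), hgn⟩ : nG G) ^ p ^ k = 1 from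
        Subtype.ext (by simpa using congrArg Subtype.val hk), map_one]
    have h' := congrArg (fun x : Fˣ => (x : F)) h
    simp only [Units.val_pow_eq_pow_val, Units.val_one, coe_diagHom] at h'
    exact sub_eq_zero.1 (pow_eq_zero_iff (pow_ne_zero k (Fact.out : p.Prime).pos.ne') |>.1 (by
      rw [sub_pow_char_pow, h', one_pow, sub_self]))
  have h10 : ((g : G) : SL).1 1 0 = 0 := hgn
  have hd := det_eq ((g : G) : SL)
  rw [h10, mul_zero, sub_zero, h00, one_mul] at hd
  refine Subgroup.mem_subgroupOf.2 (mem_uG.2 ⟨h10, ?_⟩)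
  show ((g : G) : SL).1.trace = 2
  rw [Matrix.trace_fin_two, h00, hd, one_add_one_eq_two]

/-- The image in `PSL₂` and the counting data. -/
theorem image_data (G : Subgroup SL) {b c : F} (hb : b ≠ 0) (hbG : up b ∈ G) (hc : c ≠ 0)
    (hcG : lo c ∈ G) :
    ∃ k, 0 < k ∧ (nG G).index = Nat.card (param G) * k + 1 ∧
      ∃ r, Nat.card (G.map (PSL2.mk : SL →* PSL)) = (nG G).index * (Nat.card (param G) * r) ∧
        ¬ p ∣ (nG G).index * r := by
  obtain ⟨k, hk, hn, -⟩ := index_shape p hb hbG hc hcG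
  refine ⟨k, hk, hn, ?_⟩
  let f : G →* G.map (PSL2.mk : SL →* PSL) := PSL2.mk.subgroupMap G
  have hfs : Function.Surjective f := PSL2.mk.subgroupMap_surjective G
  have hker : f.ker ≤ nG G := by
    intro g hg
    have h : PSL2.mk (g : SL) = 1 := congrArg Subtype.val (MonoidHom.mem_ker.1 hg)
    show (g : SL).1 1 0 = 0
    rcases mk_eq_one h with e | e <;> rw [e] <;> simp
  have hidx : ((nG G).map f).index = (nG G).index := Subgroup.index_map_eq _ hfs hker
  have hcard : Nat.card (G.map (PSL2.mk : SL →* PSL)) = (nG G).index * Nat.card ((nG G).map f) := by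
    rw [← hidx, mul_comm, Subgroup.card_mul_index]
  have hinj : Function.Injective (fun x : uG G => f x) := by
    intro x y h
    have h1 : f ((y : G)⁻¹ * x) = 1 := by
      rw [map_mul, map_inv, show f (x : G) = f y from h, inv_mul_cancel]
    have hmem : (y : G)⁻¹ * x ∈ uG G := (uG G).mul_mem ((uG G).inv_mem y.2) x.2
    obtain ⟨t, ht⟩ := hmem
    rcases mk_eq_one (congrArg Subtype.val h1) with e | e
    · exact Subtype.ext (inv_mul_eq_one.1 (Subtype.ext e)).symm
    · have e0 : up t = (-1 : SL) := ht.symm.trans e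
      have e1 := congrArg (fun z : SL => z.1 0 1) e0
      simp at e1
      refine Subtype.ext (inv_mul_eq_one.1 (Subtype.ext ?_)).symm
      rw [show (((y : G)⁻¹ * x : G) : SL) = up t from ht, e1, up_zero]; rfl
  have hQ : Nat.card ((uG G).map f) = Nat.card (param G) := by
    rw [← card_uG]
    exact (Nat.card_congr (Equiv.ofBijective (fun x : uG G => (⟨f x, ⟨x, x.2, rfl⟩⟩ : (uG G).map f))
      ⟨fun x y h => hinj (congrArg Subtype.val h), by rintro ⟨_, x, hx, rfl⟩; exact ⟨⟨x, hx⟩, rfl⟩⟩)).symm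
  obtain ⟨r, hr⟩ : Nat.card (param G) ∣ Nat.card ((nG G).map f) :=
    hQ ▸ Subgroup.card_dvd_of_le (Subgroup.map_mono uG_le_nG)
  refine ⟨r, by rw [hcard, hr], ?_⟩
  obtain ⟨S, hS⟩ := uG_sylow p G hb hbG
  intro hdvd
  have h1 := S.not_dvd_index
  apply h1
  rw [hS]
  have h2 : Nat.card G = Nat.card (uG G) * (uG G).index := (Subgroup.card_mul_index _).symm
  have h3 : Nat.card (G.map (PSL2.mk : SL →* PSL)) ∣ Nat.card G :=
    Subgroup.card_dvd_of_surjective (G := G) f hfs
  rw [hcard, hr, h2, card_uG] at h3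
  refine dvd_trans hdvd ?_
  refine Nat.dvd_of_mul_dvd_mul_left (Nat.card_pos (α := param G)) ?_
  refine dvd_trans ?_ h3
  exact dvd_of_eq (by ring)

/-- A `p`-power dividing `n · m` exactly is determined. -/
theorem part_eq {Q i n : ℕ} (hQ : ∃ a, Q = p ^ a) (hi : ∃ a, i = p ^ a) {h m : ℕ}
    (e1 : h = Q * n) (hn : ¬ p ∣ n) (e2 : h = i * m) (hm : ¬ p ∣ m) : Q = i := by
  obtain ⟨a, rfl⟩ := hQ
  obtain ⟨b, rfl⟩ := hi
  have hn0 : n ≠ 0 := fun e => hn (e ▸ dvd_zero p)
  have hm0 : m ≠ 0 := fun e => hm (e ▸ dvd_zero p)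
  have hp := (Fact.out : p.Prime)
  have := congrArg (padicValNat p) (e1.symm.trans e2)
  rw [padicValNat.mul (pow_ne_zero _ hp.ne_zero) hn0, padicValNat.mul (pow_ne_zero _ hp.ne_zero) hm0,
    padicValNat.prime_pow, padicValNat.prime_pow, padicValNat.eq_zero_of_not_dvd hn,
    padicValNat.eq_zero_of_not_dvd hm] at this
  simp only [add_zero] at this
  rw [this]

/-- At least three upper unipotents and a lower one: `Q + 1` Borel cosets, or the icosahedral case. -/
theorem index_cases (G : Subgroup SL) {b c : F} (hb : b ≠ 0) (hbG : up b ∈ G) (hc : c ≠ 0)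
    (hcG : lo c ∈ G) (hQ3 : 3 ≤ Nat.card (param G)) :
    (nG G).index = Nat.card (param G) + 1 ∨
      (p = 3 ∧ Nat.card (param G) = 3 ∧
        Nonempty (G.map (PSL2.mk : SL →* PSL) ≃* alternatingGroup (Fin 5))) := by
  classical
  obtain ⟨k, hk, hn, r, hcard, hnr⟩ := image_data p G hb hbG hc hcG
  set H := G.map (PSL2.mk : SL →* PSL)
  set Q := Nat.card (param G)
  set n := (nG G).index
  have hQp : ∃ a, Q = p ^ a := by
    have hP : IsPGroup p (Multiplicative (param G)) := fun g => ⟨1, by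
      rw [pow_one]
      apply Multiplicative.toAdd.injective
      rw [toAdd_pow, toAdd_one]
      refine Subtype.ext ?_
      simp⟩
    obtain ⟨a, ha⟩ := IsPGroup.iff_card.1 hP
    exact ⟨a, (Nat.card_congr Multiplicative.toAdd).symm.trans ha⟩
  have hn1 : ¬ p ∣ n := fun h => hnr (dvd_mul_of_dvd_left h r)
  have hnle : Q + 1 ≤ n := by rw [hn]; nlinarith
  have hH : Nat.card H = Q * (n * r) := by rw [hcard]; ring
  have finish : Nat.card H ∣ Q * (Q ^ 2 - 1) → n = Q + 1 := fun h =>
    eq_succ_of_dvd (by omega) hk hn (dvd_trans (Dvd.intro r rfl)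
      (Nat.dvd_of_mul_dvd_mul_left (by omega) (hH ▸ h)))
  obtain ⟨f, hp, hF⟩ := FiniteField.card F p
  rcases classification p H with ⟨j, hj, hjH⟩ | ⟨P, K, hKP, ⟨e⟩⟩ | ⟨⟨e⟩⟩ | ⟨⟨e⟩⟩ | ⟨⟨e⟩⟩ |
    ⟨K, _, _, m, hm, hiso⟩
  · exfalso
    have hpj : ¬ p ∣ j := by
      intro hpj
      have hqp : p ∣ Fintype.card F := hF ▸ dvd_pow_self p f.pos.ne'
      have h1 := Fintype.one_lt_card (α := F)
      rcases hj with hj | hj
      · have hg : Nat.gcd 2 (Fintype.card F - 1) ∣ Fintype.card F + 1 := by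
          rw [show Fintype.card F + 1 = (Fintype.card F - 1) + 2 by omega]
          exact Nat.dvd_add (Nat.gcd_dvd_right _ _) (Nat.gcd_dvd_left _ _)
        exact hp.not_dvd_one ((Nat.dvd_add_right hqp).1
          (dvd_trans hpj (dvd_trans hj (Nat.div_dvd_of_dvd hg))))
      · have := dvd_trans hpj (dvd_trans hj (Nat.div_dvd_of_dvd (Nat.gcd_dvd_right _ _)))
        have h2 := Nat.dvd_sub hqp this
        rw [show Fintype.card F - (Fintype.card F - 1) = 1 by omega] at h2
        exact hp.not_dvd_one h2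
    obtain ⟨a, ha⟩ := hQp
    have ha0 : a ≠ 0 := by rintro rfl; simp at ha; omega
    have hpH : p ^ a ∣ Nat.card H := by rw [hH, ha]; exact Dvd.intro _ rfl
    rcases hjH with ⟨-, hc'⟩ | ⟨⟨e⟩⟩
    · exact hpj (hc' ▸ dvd_trans (dvd_pow_self p ha0) hpH)
    · rw [Nat.card_congr e.toEquiv, DihedralGroup.nat_card] at hpH
      have h2 : p ^ a ∣ 2 :=
        (Nat.Coprime.pow_left a (hp.coprime_iff_not_dvd.2 hpj)).dvd_of_dvd_mul_right hpH
      have := Nat.le_of_dvd two_pos h2
      omega
  · -- the Borel case: elements of order `p` commute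
    exfalso
    have hPc : ∀ x ∈ (P : Subgroup PSL), ∀ y ∈ (P : Subgroup PSL), x * y = y * x := by
      intro x hx y hy
      obtain ⟨g, hg⟩ := MulAction.exists_smul_eq PSL (PSL2.uSylow (F := F) p) P
      rw [← hg, Sylow.coe_subgroup_smul, Subgroup.mem_smul_pointwise_iff_exists] at hx hy
      obtain ⟨x, hx, rfl⟩ := hx
      obtain ⟨y, hy, rfl⟩ := hy
      obtain ⟨a, rfl⟩ := hx
      obtain ⟨a', rfl⟩ := hy
      rw [← smul_mul', ← smul_mul', ← map_mul, ← map_mul, mul_comm]
    have hmem : ∀ x : H, x ^ p = 1 → ((e x : K) : PSL) ∈ (P : Subgroup PSL) := by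
      intro x hx
      have hy : IsPGroup p (Subgroup.zpowers ((e x : K) : PSL)) := by
        refine IsPGroup.of_card_dvd_pow (n := 1) ?_
        rw [Nat.card_zpowers, pow_one]
        exact orderOf_dvd_of_pow_eq_one (by rw [← SubmonoidClass.coe_pow, ← map_pow, hx, map_one]; rfl)
      have hle : Subgroup.zpowers ((e x : K) : PSL) ≤ Subgroup.normalizer (P : Set PSL) :=
        Subgroup.zpowers_le.2 (hKP (e x).2)
      have h := hy.inf_normalizer_sylow P
      rw [inf_eq_left.2 hle] at h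
      exact (h ▸ Subgroup.mem_zpowers _ : _ ∈ _ ⊓ (P : Subgroup PSL)).2
    let u : H := ⟨PSL2.mk (up b), ⟨_, hbG, rfl⟩⟩
    let v : H := ⟨PSL2.mk (lo c), ⟨_, hcG, rfl⟩⟩
    have hu : u ^ p = 1 := Subtype.ext (by
      show PSL2.mk (up b) ^ p = 1
      rw [← map_pow, up_pow, CharP.cast_eq_zero, zero_mul, up_zero, map_one])
    have hv : v ^ p = 1 := Subtype.ext (by
      show PSL2.mk (lo c) ^ p = 1
      rw [← map_pow, lo_pow, CharP.cast_eq_zero, zero_mul, show lo (0 : F) = 1 from by
        apply ext_entries <;> simp, map_one])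
    have huv : u * v = v * u := e.injective (Subtype.ext (by
      rw [map_mul, map_mul]
      exact hPc _ (hmem u hu) _ (hmem v hv)))
    have h := congrArg Subtype.val huv
    change PSL2.mk (up b) * PSL2.mk (lo c) = PSL2.mk (lo c) * PSL2.mk (up b) at h
    rw [← map_mul, ← map_mul] at h
    rcases PSL2.mk_eq_mk.1 h with e' | e'
    · have h00 := congrFun (congrFun e' 0) 0
      simp [hb, hc] at h00
    · have h00 := congrFun (congrFun e' 0) 0
      have h01 := congrFun (congrFun e' 0) 1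
      simp at h00 h01
      have h2 : (2 : F) = 0 := by
        have : b * 2 = 0 := by linear_combination h01
        exact (mul_eq_zero.1 this).resolve_left hb
      exact mul_ne_zero hb hc (by linear_combination h00 - h2)
  · have h12 : Nat.card H = 12 := by
      rw [Nat.card_congr e.toEquiv, nat_card_alternatingGroup, Nat.card_fin]; rfl
    have hQ : Q = 3 := by
      have hd : Q * (n * r) = 12 := hH ▸ h12
      have hr : n ≤ n * r := Nat.le_mul_of_pos_right _ (by
        rcases Nat.eq_zero_or_pos r with h | h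
        · rw [h] at hd; simp at hd
        · exact h)
      have : Q ≤ 4 := by nlinarith
      interval_cases Q
      · rfl
      · omega
    exact Or.inl (finish (by rw [h12, hQ]; norm_num))
  · have h24 : Nat.card H = 24 := by
      rw [Nat.card_congr e.toEquiv, Nat.card_perm, Nat.card_fin]; rfl
    have hQ : Q = 3 := by
      have hd : Q * (n * r) = 24 := hH ▸ h24
      have hr : n ≤ n * r := Nat.le_mul_of_pos_right _ (by
        rcases Nat.eq_zero_or_pos r with h | h
        · rw [h] at hd; simp at hd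
        · exact h)
      have hQ4 : Q ≤ 4 := by nlinarith
      interval_cases Q
      · rfl
      · have h6 : n * r = 6 := by omega
        have hn6 : n ∣ 6 := ⟨r, h6.symm⟩
        have : n ≤ 6 := Nat.le_of_dvd (by norm_num) hn6
        interval_cases n <;> omega
    exact Or.inl (finish (by rw [h24, hQ]; norm_num))
  · have h60 : Nat.card H = 60 := by
      rw [Nat.card_congr e.toEquiv, nat_card_alternatingGroup, Nat.card_fin]; rfl
    have hd : Q * (n * r) = 60 := hH ▸ h60
    have hr : n ≤ n * r := Nat.le_mul_of_pos_right _ (by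
      rcases Nat.eq_zero_or_pos r with h | h
      · rw [h] at hd; simp at hd
      · exact h)
    have hQ7 : Q ≤ 7 := by nlinarith
    interval_cases hQv : Q
    · obtain ⟨a, ha⟩ := hQp
      refine Or.inr ⟨?_, rfl, ⟨e⟩⟩
      have hd3 : p ∣ 3 := ha ▸ dvd_pow_self p (by rintro rfl; simp at ha)
      exact (Nat.prime_dvd_prime_iff_eq hp Nat.prime_three).1 hd3
    · exact Or.inl (finish (by rw [h60]; norm_num))
    · exact Or.inl (finish (by rw [h60]; norm_num))
    · exfalso
      have h10 : n * r = 10 := by omega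
      have : n ∣ 10 := ⟨r, h10.symm⟩
      have : n ≤ 10 := Nat.le_of_dvd (by norm_num) this
      interval_cases n <;> omega
    · omega
  · have hchar : CharP K p := by
      obtain ⟨p', hp'⟩ := CharP.exists K
      obtain ⟨f', hpp', hK⟩ := FiniteField.card K p'
      have hpd : p' ∣ p ^ (f : ℕ) := by
        rw [← hF, ← hm]
        rcases Nat.eq_zero_or_pos m with rfl | hm0
        · have := Fintype.one_lt_card (α := F); simp at hm; omega
        · exact dvd_trans (hK ▸ dvd_pow_self p' f'.pos.ne') (dvd_pow_self _ hm0.ne')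
      rwa [← (Nat.prime_dvd_prime_iff_eq hpp' hp).1 (hpp'.dvd_of_dvd_pow hpd)]
    obtain ⟨f', -, hK⟩ := FiniteField.card K p
    have hK2 := Fintype.one_lt_card (α := K)
    have hd : Nat.card H ∣ Fintype.card K * (Fintype.card K ^ 2 - 1) := by
      rcases hiso with ⟨⟨e⟩⟩ | ⟨⟨e⟩⟩
      · rw [Nat.card_congr e.toEquiv, ← card_psl (F := K)]; exact dvd_mul_left _ _
      · rw [Nat.card_congr e.toEquiv, SLCard.card_PGL, SLCard.card_SL_two]
    have hKH : Fintype.card K ∣ Nat.card H := by
      rcases hiso with ⟨⟨e⟩⟩ | ⟨⟨e⟩⟩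
      · rw [Nat.card_congr e.toEquiv, ← card_uSylow (F := K) p]
        exact Subgroup.card_subgroup_dvd_card _
      · rw [Nat.card_congr e.toEquiv, SLCard.card_PGL, SLCard.card_SL_two]
        exact dvd_mul_right _ _
    obtain ⟨m', hm'⟩ := hKH
    have hpm : ¬ p ∣ m' := by
      intro h
      have h1 : m' ∣ Fintype.card K ^ 2 - 1 :=
        Nat.dvd_of_mul_dvd_mul_left (by omega) (hm' ▸ hd)
      have h2 : p ∣ Fintype.card K ^ 2 := dvd_pow (hK ▸ dvd_pow_self p f'.pos.ne') two_ne_zero
      have h3 := Nat.dvd_sub h2 (dvd_trans h h1)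
      have : 1 ≤ Fintype.card K ^ 2 := Nat.one_le_pow _ _ (by omega)
      rw [show Fintype.card K ^ 2 - (Fintype.card K ^ 2 - 1) = 1 by omega] at h3
      exact hp.not_dvd_one h3
    have hQK : Q = Fintype.card K := part_eq p hQp ⟨_, hK⟩ hH hnr hm' hpm
    exact Or.inl (finish (by rw [hQK]; exact hd))

include p in
/-- The parameters form a scaled subfield when there are `Q + 1` Borel cosets. -/
theorem field_of_index (G : Subgroup SL) {b c : F} (hb : b ≠ 0) (hbG : up b ∈ G) (hc : c ≠ 0)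
    (hcG : lo c ∈ G) (hk : (nG G).index = Nat.card (param G) + 1) :
    ∃ K : Subfield F, Nat.card K = Nat.card (param G) ∧ (∀ t, up t ∈ G ↔ t / b ∈ K) ∧
      (∀ s, lo s ∈ G ↔ s * b ∈ K) := by
  obtain ⟨k, hk0, hn, hk1⟩ := index_shape p hb hbG hc hcG
  have hQ0 : 0 < Nat.card (param G) := Nat.card_pos
  obtain rfl : k = 1 := by
    by_contra h
    have : 2 ≤ k := by omega
    have : Nat.card (param G) * 2 ≤ Nat.card (param G) * k := Nat.mul_le_mul_left _ this
    have h1 : 1 < Nat.card (param G) := by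
      haveI : Nontrivial (param G) := ⟨⟨0, ⟨b, hbG⟩, fun e => hb (congrArg Subtype.val e).symm⟩⟩
      exact Finite.one_lt_card
    omega
  obtain ⟨t, ht, htu, htl⟩ := hk1 rfl
  let w : SL := up t * lo (-t⁻¹) * up t
  have hlo : lo (-t⁻¹) ∈ G := by
    have := G.inv_mem htl
    rwa [inv_eq_of_mul_eq_one_left (show lo (-t⁻¹) * lo t⁻¹ = 1 by
      rw [lo_mul, neg_add_cancel]; apply ext_entries <;> simp)] at this
  have hwG : w ∈ G := G.mul_mem (G.mul_mem htu hlo) htu
  have hwm : w.1 = !![0, t; -t⁻¹, 0] := by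
    ext i j
    fin_cases i <;> fin_cases j <;> simp [w, Matrix.mul_apply, Fin.sum_univ_two, ht]
  have h0 : (0 : F) ∈ pts G := ⟨w, hwG, by rw [hwm]; simpa using ht, by rw [hwm]; simp⟩
  have hpts : pts G = (param G : Set F) := by
    have hsub : (param G : Set F) ⊆ pts G := fun x hx => by simpa using pts_add h0 hx
    refine (Set.eq_of_subset_of_ncard_le hsub ?_ (Set.toFinite _)).symm
    have h1 := pts_ncard G
    rw [hk] at h1
    rw [← Nat.card_coe_set_eq (param G : Set F)]
    change (pts G).ncard ≤ Nat.card (param G)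
    omega
  have hinvp : ∀ s, s ≠ 0 → lo s ∈ G → s⁻¹ ∈ param G := fun s hs hsG => by
    have : s⁻¹ ∈ pts G := ⟨lo s, hsG, by simpa using hs, by simp⟩
    rwa [hpts] at this
  have hconj : ∀ x, x ∈ param G → lo (-x / t ^ 2) ∈ G := by
    intro x hx
    have h := G.mul_mem (G.mul_mem hwG hx) (G.inv_mem hwG)
    convert h using 1
    obtain ⟨c01, c10, c00⟩ := Dickson.conj_up w x
    have htr := Dickson.trace_conj w (up x)
    refine ext_entries ?_ ?_ ?_ ?_
    · rw [c00, hwm]; simp
    · rw [c01, hwm]; simp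
    · rw [c10, hwm]; simp [ht]; field_simp
    · rw [Matrix.trace_fin_two, Matrix.trace_fin_two, c00, hwm] at htr
      simp at htr ⊢
      linear_combination -htr
  let A : AddSubgroup F := (param G).comap (AddMonoidHom.mulRight b)
  have hA : ∀ {x}, x ∈ A ↔ x * b ∈ param G := Iff.rfl
  have h1A : (1 : F) ∈ A := hA.2 (by rw [one_mul]; exact hbG)
  have hkA : ∀ x ∈ A, x ≠ 0 → -(t ^ 2 / b ^ 2) / x ∈ A := fun x hx hx0 => by
    have := hinvp _ (by simp [hx0, hb, ht]) (hconj _ (hA.1 hx))
    refine hA.2 ?_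
    convert this using 1
    field_simp
  obtain ⟨K, hK⟩ := exists_subfield p A h1A (k := -(t ^ 2 / b ^ 2)) (by simp [ht, hb])
    (by simpa using hkA 1 h1A one_ne_zero) hkA
  have hKA : ∀ {x}, x ∈ K ↔ x * b ∈ param G := fun {x} => by
    rw [← SetLike.mem_coe, hK]; exact hA
  have hkK : -(t ^ 2 / b ^ 2) ∈ K := hKA.2 (hA.1 (by simpa using hkA 1 h1A one_ne_zero))
  refine ⟨K, ?_, fun x => ?_, fun s => ⟨fun hs => ?_, fun hs => ?_⟩⟩
  · exact Nat.card_congr
      { toFun := fun x => ⟨(x : F) * b, hKA.1 x.2⟩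
        invFun := fun x => ⟨(x : F) / b, hKA.2 (by rw [div_mul_cancel₀ _ hb]; exact x.2)⟩
        left_inv := fun x => Subtype.ext (by simp [hb])
        right_inv := fun x => Subtype.ext (by simp [hb]) }
  · rw [hKA, div_mul_cancel₀ _ hb]; rfl
  · rcases eq_or_ne s 0 with rfl | hs0
    · simp [K.zero_mem]
    · have := K.inv_mem ((hKA (x := s⁻¹ / b)).2 (by rw [div_mul_cancel₀ _ hb]; exact hinvp s hs0 hs))
      convert this using 1
      field_simp
  · have h := hconj (s * b * (-(t ^ 2 / b ^ 2)) * b) (hKA.1 (K.mul_mem hs hkK))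
    convert h using 2
    field_simp

/-- The pair lemma: a scaled subfield, or the icosahedral product in characteristic three. -/
theorem pair_field (G : Subgroup SL) {b c : F} (hb : b ≠ 0) (hbG : up b ∈ G) (hc : c ≠ 0)
    (hcG : lo c ∈ G) (hQ3 : 3 ≤ Nat.card (param G)) :
    (∃ K : Subfield F, Nat.card K = Nat.card (param G) ∧ (∀ t, up t ∈ G ↔ t / b ∈ K) ∧
      (∀ s, lo s ∈ G ↔ s * b ∈ K)) ∨
    (p = 3 ∧ Nat.card (param G) = 3 ∧ (b * c = 1 ∨ b * c = -1 ∨ (b * c) ^ 2 = -1)) := by
  rcases index_cases p G hb hbG hc hcG hQ3 with h | ⟨hp3, hQ, ⟨e⟩⟩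
  · exact Or.inl (field_of_index p G hb hbG hc hcG h)
  refine Or.inr ⟨hp3, hQ, ?_⟩
  subst hp3
  have h3 : (3 : F) = 0 := by exact_mod_cast CharP.cast_eq_zero F 3
  have hpoly : ∀ x : G, ((x : SL).1.trace) ^ 3 = (x : SL).1.trace ∨ ((x : SL).1.trace) ^ 4 = -1 := by
    intro x
    set g : SL := (x : SL) with hg
    set τ := g.1.trace with hτ
    have hd := det_eq g
    have hch : g.1 * g.1 = τ • g.1 - 1 := by
      ext i j
      fin_cases i <;> fin_cases j <;>
        simp [hτ, Matrix.trace_fin_two, Matrix.mul_apply, Fin.sum_univ_two] <;>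
        first | ring1 | linear_combination -hd | linear_combination hd
    let xH : G.map (PSL2.mk : SL →* PSL) := ⟨PSL2.mk g, ⟨g, x.2, rfl⟩⟩
    obtain ⟨k, hk, hpow⟩ : ∃ k, (k = 2 ∨ k = 3 ∨ k = 5) ∧ (PSL2.mk g) ^ k = 1 := by
      rcases a5_orders (e xH) with h | h | h
      · exact ⟨2, Or.inl rfl, by simpa [xH] using congrArg (fun y => (e.symm y : PSL)) h⟩
      · exact ⟨3, Or.inr (Or.inl rfl), by simpa [xH] using congrArg (fun y => (e.symm y : PSL)) h⟩
      · exact ⟨5, Or.inr (Or.inr rfl), by simpa [xH] using congrArg (fun y => (e.symm y : PSL)) h⟩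
    have hpm : g.1 ^ k = 1 ∨ g.1 ^ k = -1 := by
      rw [← map_pow] at hpow
      rcases mk_eq_one hpow with h | h
      · exact Or.inl (by simpa using congrArg Subtype.val h)
      · exact Or.inr (by simpa using congrArg Subtype.val h)
    by_cases hsc : g.1 0 1 = 0 ∧ g.1 1 0 = 0 ∧ g.1 0 0 = g.1 1 1
    · left
      obtain ⟨e1, e2, e3⟩ := hsc
      rw [e1, e2, ← e3, mul_zero, sub_zero] at hd
      rcases mul_self_eq_one_iff.1 hd with h | h
      · rw [hτ, Matrix.trace_fin_two, ← e3, h]; linear_combination 2 * h3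
      · rw [hτ, Matrix.trace_fin_two, ← e3, h]; linear_combination -2 * h3
    have key : ∀ a d : F, a • g.1 + d • (1 : Matrix (Fin 2) (Fin 2) F) = 0 → a = 0 := by
      intro a d h
      by_contra ha
      apply hsc
      have h01 := congrFun (congrFun h 0) 1
      have h10 := congrFun (congrFun h 1) 0
      have h00 := congrFun (congrFun h 0) 0
      have h11 := congrFun (congrFun h 1) 1
      simp [ha] at h01 h10 h00 h11
      exact ⟨h01, h10, mul_left_cancel₀ ha (by linear_combination h00 - h11)⟩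
    have h2 : g.1 ^ 2 = τ • g.1 - 1 := by rw [sq, hch]
    have h3' : g.1 ^ 3 = (τ ^ 2 - 1) • g.1 - τ • 1 := by
      rw [pow_succ, h2, sub_mul, Matrix.smul_mul, hch, one_mul, smul_sub, smul_smul]
      module
    have h5 : g.1 ^ 5 = (τ ^ 4 - 3 * τ ^ 2 + 1) • g.1 - (τ ^ 3 - 2 * τ) • 1 := by
      rw [show (5 : ℕ) = 2 + 3 by rfl, pow_add, h2, h3', sub_mul, mul_sub, mul_sub, Matrix.smul_mul,
        Matrix.smul_mul, Matrix.mul_smul, Matrix.mul_smul, hch, mul_one, one_mul, one_mul]
      module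
    rcases hk with rfl | rfl | rfl
    · left
      have : τ = 0 := by
        rcases hpm with h | h
        · exact key τ (-1 - 1) (by rw [← sub_eq_zero.2 (h2.symm.trans h)]; module)
        · exact key τ (-1 + 1) (by rw [← sub_eq_zero.2 (h2.symm.trans h)]; module)
      rw [this]; ring
    · left
      have : τ ^ 2 - 1 = 0 := by
        rcases hpm with h | h
        · exact key _ (-τ - 1) (by rw [← sub_eq_zero.2 (h3'.symm.trans h)]; module)
        · exact key _ (-τ + 1) (by rw [← sub_eq_zero.2 (h3'.symm.trans h)]; module)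
      linear_combination τ * this
    · right
      have : τ ^ 4 - 3 * τ ^ 2 + 1 = 0 := by
        rcases hpm with h | h
        · exact key _ (-(τ ^ 3 - 2 * τ) - 1) (by rw [← sub_eq_zero.2 (h5.symm.trans h)]; module)
        · exact key _ (-(τ ^ 3 - 2 * τ) + 1) (by rw [← sub_eq_zero.2 (h5.symm.trans h)]; module)
      linear_combination this + τ ^ 2 * h3
  have h1 := hpoly ⟨up b * lo c, G.mul_mem hbG hcG⟩
  have h2 := hpoly ⟨up (-b) * lo c, G.mul_mem (by rw [← up_inv]; exact G.inv_mem hbG) hcG⟩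
  have t1 : (up b * lo c).1.trace = 2 + b * c := by
    simp [Matrix.trace_fin_two, mul_entry]; ring
  have t2 : (up (-b) * lo c).1.trace = 2 - b * c := by
    simp [Matrix.trace_fin_two, mul_entry]; ring
  simp only [t1, t2] at h1 h2
  set u := b * c with hu
  have hu0 : u ≠ 0 := mul_ne_zero hb hc
  have lin : ∀ z : F, (2 + z) ^ 3 = 2 + z → z = 0 ∨ z = 1 ∨ z = -1 := by
    intro z hz
    have : z * (z - 1) * (z + 1) = 0 := by
      linear_combination hz - (2 + 2 * z ^ 2 + 4 * z) * h3
    rcases mul_eq_zero.1 this with h | h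
    · rcases mul_eq_zero.1 h with h | h
      · exact Or.inl h
      · exact Or.inr (Or.inl (sub_eq_zero.1 h))
    · exact Or.inr (Or.inr (eq_neg_of_add_eq_zero_left h))
  rcases h1 with h1 | h1
  · rcases lin u h1 with h | h | h
    · exact absurd h hu0
    · exact Or.inl h
    · exact Or.inr (Or.inl h)
  rcases h2 with h2 | h2
  · rw [sub_eq_add_neg] at h2
    rcases lin (-u) h2 with h | h | h
    · exact absurd (neg_eq_zero.1 h) hu0
    · exact Or.inr (Or.inl (neg_eq_iff_eq_neg.1 h))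
    · exact Or.inl (neg_inj.1 h)
  · refine Or.inr (Or.inr ?_)
    have h8 : u * (u ^ 2 + 1) = 0 := by
      linear_combination h1 - h2 - (21 * u + 5 * u ^ 3) * h3
    exact eq_neg_of_add_eq_zero_left ((mul_eq_zero.1 h8).resolve_left hu0)

end CfsgLib.ResThree.Tv
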