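import Cfsg.Agent.Lib.MaxSub.ResThree.Tv.Mem
import Cfsg.Agent.Lib.MaxSub.ResThree.Tv.Pair
import Cfsg.Agent.Lib.PSL2Max.Scaled

/-!
The `SL₂` of an opposite pair of transvections inside a subgroup of `GL₃`.
-/

set_option autoImplicit false
set_option linter.unusedSectionVars false

namespace CfsgLib.ResThree.Tv

open Matrix CfsgLib.Dickson CfsgLib.DicksonFull

variable {F : Type*} [Field F]

local notation "G3" => Matrix.GeneralLinearGroup (Fin 3) F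
local notation "V" => Fin 3 → F
local notation "M3" => Matrix (Fin 3) (Fin 3) F
local notation "SL" => Matrix.SpecialLinearGroup (Fin 2) F

/-- The columns of a plane. -/
def colMat (c y : V) : Matrix (Fin 3) (Fin 2) F := Matrix.of fun i j => ![c, y] j i

/-- The coordinate functionals on a plane. -/
def rowMat (c y φ ψ : V) : Matrix (Fin 2) (Fin 3) F :=
  Matrix.of ![(ψ ⬝ᵥ c)⁻¹ • ψ, (φ ⬝ᵥ y)⁻¹ • φ]

theorem row_mul_col {c y φ ψ : V} (h1 : φ ⬝ᵥ c = 0) (h2 : ψ ⬝ᵥ y = 0) (h3 : φ ⬝ᵥ y ≠ 0)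
    (h4 : ψ ⬝ᵥ c ≠ 0) : rowMat c y φ ψ * colMat c y = 1 := by
  have e : ∀ i j, (rowMat c y φ ψ * colMat c y) i j =
      (![(ψ ⬝ᵥ c)⁻¹ • ψ, (φ ⬝ᵥ y)⁻¹ • φ] i) ⬝ᵥ (![c, y] j) := fun i j => rfl
  ext i j
  rw [e]
  fin_cases i <;> fin_cases j <;> simp [smul_dotProduct, h1, h2, h3, h4]

/-- The copy of `SL₂` on a plane with a complement fixed. -/
def planeHom (c y φ ψ : V) (h1 : φ ⬝ᵥ c = 0) (h2 : ψ ⬝ᵥ y = 0) (h3 : φ ⬝ᵥ y ≠ 0)
    (h4 : ψ ⬝ᵥ c ≠ 0) : SL →* G3 :=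
  MonoidHom.toHomUnits
    { toFun := fun g => 1 + colMat c y * ((g.1 - 1) * rowMat c y φ ψ)
      map_one' := by simp
      map_mul' := fun g h => by
        show (1 + colMat c y * (((g * h : SL).1 - 1) * rowMat c y φ ψ) : M3) = _
        rw [mul_add, mul_one, add_mul, one_mul]
        have e : colMat c y * ((g.1 - 1) * rowMat c y φ ψ) * (colMat c y * ((h.1 - 1) * rowMat c y φ ψ)) =
            colMat c y * ((g.1 - 1) * (h.1 - 1) * rowMat c y φ ψ) := by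
          rw [Matrix.mul_assoc, Matrix.mul_assoc (g.1 - 1), ← Matrix.mul_assoc (rowMat c y φ ψ),
            row_mul_col h1 h2 h3 h4, Matrix.one_mul, Matrix.mul_assoc (g.1 - 1)]
        rw [e, show (g * h : SL).1 = g.1 * h.1 from rfl,
          show g.1 * h.1 - 1 = (g.1 - 1) + ((g.1 - 1) * (h.1 - 1) + (h.1 - 1)) by noncomm_ring,
          Matrix.add_mul, Matrix.add_mul, Matrix.mul_add, Matrix.mul_add]
        abel }

variable {c y φ ψ : Fin 3 → F} (h1 : φ ⬝ᵥ c = 0) (h2 : ψ ⬝ᵥ y = 0) (h3 : φ ⬝ᵥ y ≠ 0) (h4 : ψ ⬝ᵥ c ≠ 0)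

theorem plane_up (t : F) : (planeHom c y φ ψ h1 h2 h3 h4 (up (t * φ ⬝ᵥ y))).1 =
    1 + vecMulVec (t • c) φ := by
  show (1 + colMat c y * (((up (t * φ ⬝ᵥ y) : SL).1 - 1) * rowMat c y φ ψ) : M3) = _
  congr 1
  ext i j
  simp only [Matrix.mul_apply, Fin.sum_univ_two, colMat, rowMat, Matrix.of_apply, Matrix.sub_apply]
  simp [vecMulVec_apply]
  field_simp

theorem plane_lo (s : F) : (planeHom c y φ ψ h1 h2 h3 h4 (lo (s * ψ ⬝ᵥ c))).1 =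
    1 + vecMulVec (s • y) ψ := by
  show (1 + colMat c y * (((lo (s * ψ ⬝ᵥ c) : SL).1 - 1) * rowMat c y φ ψ) : M3) = _
  congr 1
  ext i j
  simp only [Matrix.mul_apply, Fin.sum_univ_two, colMat, rowMat, Matrix.of_apply, Matrix.sub_apply]
  simp [vecMulVec_apply]
  field_simp

theorem mem_comap_plane (P : Subgroup G3) {g : SL} {M : M3}
    (h : (planeHom c y φ ψ h1 h2 h3 h4 g).1 = M) :
    g ∈ P.comap (planeHom c y φ ψ h1 h2 h3 h4) ↔ ∃ k ∈ P, k.1 = M :=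
  ⟨fun hg => ⟨_, hg, h⟩, fun ⟨k, hk, e⟩ => by
    rw [Subgroup.mem_comap]
    rwa [show planeHom c y φ ψ h1 h2 h3 h4 g = k from Units.ext (h.trans e.symm)]⟩

variable {P : Subgroup (Matrix.GeneralLinearGroup (Fin 3) F)}

theorem zero_mem_rootSet (c φ : V) : (0 : F) ∈ rootSet P c φ := by
  show Mem P _ _
  rw [zero_smul]
  exact mem_zero φ

theorem natCast_mem_rootSet (hP : Core P) (h : Root P c φ) (n : ℕ) : (n : F) ∈ rootSet P c φ :=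
  h.2.2.zsmul hP n

variable [Fintype F] (p : ℕ) [Fact p.Prime] [CharP F p]

include p in
theorem le_card_rootSet (hP : Core P) (h : Root P c φ) : p ≤ Nat.card (rootSet P c φ) := by
  have hinj : Function.Injective (fun i : Fin p => (⟨((i : ℕ) : F), natCast_mem_rootSet hP h i⟩ :
      rootSet P c φ)) := fun i j e => Fin.ext
    (CharP.natCast_injOn_Iio F p i.2 j.2 (congrArg Subtype.val e))
  simpa using Nat.card_le_card_of_injective _ hinj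

include p in
/-- An opposite pair with a root group of size at least three. -/
theorem pair_cases (hc : Root P c φ) (hy : Root P y ψ) (h1 : φ ⬝ᵥ c = 0) (h2 : ψ ⬝ᵥ y = 0)
    (h3 : φ ⬝ᵥ y ≠ 0) (h4 : ψ ⬝ᵥ c ≠ 0) (hQ : 3 ≤ Nat.card (rootSet P c φ)) :
    (∃ K : Subfield F, Nat.card K = Nat.card (rootSet P c φ) ∧ rootSet P c φ = K ∧
      rootSet P y ψ = K ∧ φ ⬝ᵥ y * ψ ⬝ᵥ c ∈ K) ∨
    (p = 3 ∧ Nat.card (rootSet P c φ) = 3 ∧
      (φ ⬝ᵥ y * ψ ⬝ᵥ c = 1 ∨ φ ⬝ᵥ y * ψ ⬝ᵥ c = -1 ∨ (φ ⬝ᵥ y * ψ ⬝ᵥ c) ^ 2 = -1)) := by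
  classical
  set G := P.comap (planeHom c y φ ψ h1 h2 h3 h4) with hG
  have hup : ∀ t, up (t * φ ⬝ᵥ y) ∈ G ↔ t ∈ rootSet P c φ :=
    fun t => mem_comap_plane h1 h2 h3 h4 P (plane_up h1 h2 h3 h4 t)
  have hlo : ∀ s, lo (s * ψ ⬝ᵥ c) ∈ G ↔ s ∈ rootSet P y ψ :=
    fun s => mem_comap_plane h1 h2 h3 h4 P (plane_lo h1 h2 h3 h4 s)
  have hb : up (φ ⬝ᵥ y) ∈ G := by
    rw [← one_mul (φ ⬝ᵥ y), hup]
    show Mem P _ _
    rw [one_smul]; exact hc.2.2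
  have hd : lo (ψ ⬝ᵥ c) ∈ G := by
    rw [← one_mul (ψ ⬝ᵥ c), hlo]
    show Mem P _ _
    rw [one_smul]; exact hy.2.2
  let e : rootSet P c φ ≃ param G :=
    { toFun := fun t => ⟨(t : F) * φ ⬝ᵥ y, (hup _).2 t.2⟩
      invFun := fun x => ⟨(x : F) / φ ⬝ᵥ y, (hup _).1 (by rw [div_mul_cancel₀ _ h3]; exact x.2)⟩
      left_inv := fun t => Subtype.ext (mul_div_cancel_right₀ _ h3)
      right_inv := fun x => Subtype.ext (div_mul_cancel₀ _ h3) }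
  have hcard := Nat.card_congr e
  rcases pair_field p G h3 hb h4 hd (hcard ▸ hQ) with ⟨K, hK, hKu, hKl⟩ | ⟨hp, hq, hu⟩
  · have hu : φ ⬝ᵥ y * ψ ⬝ᵥ c ∈ K := by rw [mul_comm]; exact (hKl _).1 hd
    refine Or.inl ⟨K, hK.trans hcard.symm, ?_, ?_, hu⟩
    · ext t
      rw [← hup, hKu, mul_div_cancel_right₀ _ h3, SetLike.mem_coe]
    · ext s
      rw [← hlo, hKl, SetLike.mem_coe, mul_assoc, mul_comm (ψ ⬝ᵥ c)]
      refine ⟨fun h => ?_, fun h => K.mul_mem h hu⟩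
      have := K.div_mem h hu
      rwa [mul_div_cancel_right₀ _ (mul_ne_zero h3 h4)] at this
  · exact Or.inr ⟨hp, hcard.trans hq, hu⟩

end CfsgLib.ResThree.Tv
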