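import Cfsg.Agent.Lib.MaxSub.ResThree.Tv.CaseU
import Cfsg.Agent.Lib.UnitarySimple

/-!
A unitary group with full roots and one axis at every centre contains the special unitary group.
-/

set_option autoImplicit false
set_option linter.unusedSectionVars false
set_option maxHeartbeats 1000000

namespace CfsgLib.ResThree.Tv

open Matrix CfsgLib.UnitaryTransvection

variable {F : Type*} [Field F] [Fintype F] {q : ℕ} (hF : Fintype.card F = q ^ 2)
variable {P : Subgroup (Matrix.GeneralLinearGroup (Fin 3) F)}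

local notation "G3" => Matrix.GeneralLinearGroup (Fin 3) F
local notation "V" => Fin 3 → F
local notation "M3" => Matrix (Fin 3) (Fin 3) F

/-- The functional of a vector under the standard form. -/
def dualVec (q : ℕ) (c : Fin 3 → F) : Fin 3 → F := fun i => c i ^ q

theorem dualVec_dot (c u : Fin 3 → F) : dualVec q c ⬝ᵥ u = Cfsg.hermForm 3 F q u c := by
  simp [dualVec, dotProduct, Cfsg.hermForm, mul_comm]

include hF in
theorem dualVec_smul_inj {c z : Fin 3 → F} {k : F} (h : dualVec q z = k • dualVec q c) :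
    z = frob hF k • c := by
  funext i
  have := congrArg (frob hF) (congrFun h i)
  rw [Pi.smul_apply, smul_eq_mul, map_mul] at this
  simp only [dualVec, ← frob_apply hF, frob_frob hF] at this
  exact this

include hF in
theorem dualVec_ne {c : Fin 3 → F} (hc : c ≠ 0) : dualVec q c ≠ 0 := fun e =>
  hc (h_nondeg hF fun y => by
    rw [← h_swap hF, ← dualVec_dot, e, zero_dotProduct, map_zero])

include hF in
/-- Orthogonal isotropic vectors are proportional. -/
theorem iso_orth {c z : Fin 3 → F} (hc : c ≠ 0) (hcc : Cfsg.hermForm 3 F q c c = 0)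
    (hzz : Cfsg.hermForm 3 F q z z = 0) (hcz : Cfsg.hermForm 3 F q c z = 0) : ∃ k : F, z = k • c := by
  by_contra hne
  push Not at hne
  have hli : LinearIndependent F ![c, z] := (LinearIndependent.pair_iff' hc).2 fun t ht => hne t ht.symm
  have hzc : Cfsg.hermForm 3 F q z c = 0 := by rw [← h_swap hF, hcz, map_zero]
  obtain ⟨k, hk⟩ := prop_of_kills hli (dualVec_ne hF hc) (by rw [dualVec_dot, hcc]) (by rw [dualVec_dot, hzc])
    (ψ := dualVec q z) (by rw [dualVec_dot, hcz]) (by rw [dualVec_dot, hzz])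
  exact hne _ (dualVec_smul_inj hF hk)

include hF in
/-- The axis of a transvection in the unitary group. -/
theorem axis_of_gu (hP : Core P) (hU : P ≤ Cfsg.GU 3 F q) {w χ : Fin 3 → F} (hw : Root P w χ) :
    Cfsg.hermForm 3 F q w w = 0 ∧ ∃ μ : F, μ ≠ 0 ∧ μ + frob hF μ = 0 ∧
      ∀ u, χ ⬝ᵥ u = μ * Cfsg.hermForm 3 F q u w := by
  obtain ⟨g, hg, e⟩ := hw.2.2
  have hiso : ∀ u v, χ ⬝ᵥ u * Cfsg.hermForm 3 F q w v + frob hF (χ ⬝ᵥ v) * Cfsg.hermForm 3 F q u w +
      χ ⬝ᵥ u * frob hF (χ ⬝ᵥ v) * Cfsg.hermForm 3 F q w w = 0 := by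
    intro u v
    have h : Cfsg.hermForm 3 F q (g.1 *ᵥ u) (g.1 *ᵥ v) = Cfsg.hermForm 3 F q u v := hU hg u v
    rw [e, one_add_mulVec, one_add_mulVec, h_add_left, h_add_right hF, h_add_right hF, h_smul_left,
      h_smul_left, h_smul_right hF, h_smul_right hF] at h
    linear_combination h
  obtain ⟨j, hj⟩ := Function.ne_iff.1 hw.2.1
  set v0 : V := Pi.single j 1
  have hv0 : χ ⬝ᵥ v0 ≠ 0 := by rw [dotProduct_single, mul_one]; exact hj
  have hww : Cfsg.hermForm 3 F q w w = 0 := by
    have h := hiso v0 w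
    rw [hw.2.2.dot hP, map_zero, zero_mul, mul_zero, zero_mul, add_zero, add_zero] at h
    exact (mul_eq_zero.1 h).resolve_left hv0
  refine ⟨hww, ?_⟩
  have hσv : frob hF (χ ⬝ᵥ v0) ≠ 0 := (map_ne_zero _).2 hv0
  have h0 : ∀ u, χ ⬝ᵥ u * Cfsg.hermForm 3 F q w v0 = -(frob hF (χ ⬝ᵥ v0) * Cfsg.hermForm 3 F q u w) := by
    intro u
    have h := hiso u v0
    rw [hww, mul_zero, add_zero] at h
    linear_combination h
  have hb : Cfsg.hermForm 3 F q w v0 ≠ 0 := by
    intro hb
    refine dualVec_ne hF hw.1 (dotProduct_eq_zero _ fun u => ?_)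
    have h := h0 u
    rw [hb, mul_zero, zero_eq_neg, mul_eq_zero] at h
    rw [dualVec_dot]
    exact h.resolve_left hσv
  set μ := -(frob hF (χ ⬝ᵥ v0)) / Cfsg.hermForm 3 F q w v0 with hμdef
  have hlin : ∀ u, χ ⬝ᵥ u = μ * Cfsg.hermForm 3 F q u w := fun u => by
    rw [hμdef, div_mul_eq_mul_div, eq_div_iff hb, h0, neg_mul]
  refine ⟨μ, div_ne_zero (neg_ne_zero.2 hσv) hb, ?_, hlin⟩
  have h := hiso v0 v0
  rw [hww, mul_zero, add_zero, hlin, map_mul, h_swap hF] at h
  have hb' : Cfsg.hermForm 3 F q v0 w ≠ 0 := fun e0 => hb (by rw [← h_swap hF, e0, map_zero])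
  refine (mul_eq_zero.1 (?_ : (μ + frob hF μ) *
    (Cfsg.hermForm 3 F q v0 w * Cfsg.hermForm 3 F q w v0) = 0)).resolve_right (mul_ne_zero hb' hb)
  linear_combination h

include hF in
/-- Full roots in the unitary group. -/
theorem roots_full (hP : Core P) (hU : P ≤ Cfsg.GU 3 F q) {K : Subfield F} (hK : RootField P K)
    (hcard : q ^ 2 ≤ Nat.card K ^ 2) {x φ : Fin 3 → F} (hx : Root P x φ) :
    Nat.card K = q ∧ ∀ t : F, frob hF t = t ↔ t ∈ K := by
  obtain ⟨-, μ, hμ0, hμ, hlin⟩ := axis_of_gu hF hP hU hx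
  have hfix : ∀ t, t ∈ K → frob hF t = t := by
    intro t ht
    rcases eq_or_ne t 0 with rfl | ht0
    · exact map_zero _
    have hm : Mem P x (t • φ) := (mem_smul_iff t).1 (hK.smul hx.2.2 ht)
    obtain ⟨-, ν, -, hν, hlin'⟩ := axis_of_gu hF hP hU ⟨hx.1, smul_ne_zero ht0 hx.2.1, hm⟩
    obtain ⟨j, hj⟩ := Function.ne_iff.1 hx.2.1
    have hvh : Cfsg.hermForm 3 F q (Pi.single j 1) x ≠ 0 := fun e => hj (by
      have := hlin (Pi.single j 1)
      rwa [e, mul_zero, dotProduct_single, mul_one] at this)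
    have e : ν = t * μ := mul_right_cancel₀ hvh (by
      rw [← hlin', smul_dotProduct, hlin, smul_eq_mul, mul_assoc])
    rw [e, map_mul] at hν
    refine mul_right_cancel₀ ((map_ne_zero (frob hF)).2 hμ0) ?_
    linear_combination hν - t * hμ
  have hd : Fintype.card F = Nat.card K ^ Module.finrank K F := by
    rw [← Nat.card_eq_fintype_card]
    exact (Module.natCard_eq_pow_finrank (K := K) : Nat.card F = _)
  have hK2 : Nat.card K ^ 2 ≤ q ^ 2 := by
    rcases Nat.lt_or_ge (Module.finrank K F) 2 with h | h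
    · exfalso
      have h1 : Module.finrank K F = 1 := le_antisymm (by omega) Module.finrank_pos
      refine frob_ne_id hF (RingHom.ext fun t => hfix t ?_)
      have htop : K = ⊤ := by
        refine eq_top_iff.2 fun u _ => ?_
        obtain ⟨a, ha⟩ := (finrank_eq_one_iff_of_nonzero' (1 : F) one_ne_zero).1 h1 u
        rw [← ha, Subfield.smul_def, smul_eq_mul, mul_one]
        exact a.2
      rw [htop]
      exact Subfield.mem_top t
    · rw [← hF, hd]
      exact Nat.pow_le_pow_right Nat.card_pos h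
  have hKq : Nat.card K = q := Nat.pow_left_injective two_ne_zero (le_antisymm hK2 hcard)
  refine ⟨hKq, fun t => ⟨fun h => ?_, hfix t⟩⟩
  rwa [CfsgLib.PSL2Max.mem_subfield_iff, hKq, ← frob_apply hF]

include hF in
/-- Every isotropic vector is a centre. -/
theorem centre_all (hP : Core P) (hU : P ≤ Cfsg.GU 3 F q) {K : Subfield F} (hK : RootField P K)
    (hL : OneAxis P) (hcard : q ^ 2 ≤ Nat.card K ^ 2) {x φ : Fin 3 → F} (hx : Root P x φ)
    {z : Fin 3 → F} (hz0 : z ≠ 0) (hz : Cfsg.hermForm 3 F q z z = 0) : ∃ ζ, Root P z ζ := by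
  classical
  obtain ⟨hKq, hfix⟩ := roots_full hF hP hU hK hcard hx
  obtain ⟨Δ⟩ := exists_triangle hK hP hL hx
  by_contra hnz
  have scale : ∀ {c γ : V}, Root P c γ → ∀ a : F, a ≠ 0 → ∃ γ', Root P (a • c) γ' := fun {c γ} h a ha =>
    ⟨a⁻¹ • γ, by simpa using root_scale h (inv_ne_zero ha)⟩
  have hne : ∀ {c γ : V}, Root P c γ → Cfsg.hermForm 3 F q c z ≠ 0 := by
    intro c γ h e
    obtain ⟨hcc, -⟩ := axis_of_gu hF hP hU h
    obtain ⟨k, hk⟩ := iso_orth hF h.1 hcc hz e
    exact hnz (hk ▸ scale h k (fun e0 => hz0 (by rw [hk, e0, zero_smul])))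
  -- two centres on one secant through the vector
  have secant : ∀ {c γ : V} {s : F}, Root P c γ → ∀ {γ' : V}, Root P (c + s • z) γ' →
      Cfsg.hermForm 3 F q c z = 1 → s = 0 := by
    intro c γ s hc γ' hc' hcz
    by_contra hs
    obtain ⟨hcc, -⟩ := axis_of_gu hF hP hU hc
    obtain ⟨hcc', μ, hμ0, hμ, hlin⟩ := axis_of_gu hF hP hU hc'
    have hzc : Cfsg.hermForm 3 F q z c = 1 := by rw [← h_swap hF, hcz, map_one]
    have hskew : frob hF s + s = 0 := by
      rw [h_add_left, h_add_right hF, h_add_right hF, h_smul_left, h_smul_left, h_smul_right hF,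
        h_smul_right hF, hcc, hz, hcz, hzc] at hcc'
      linear_combination hcc'
    set b := γ' ⬝ᵥ c with hbdef
    have hb : b = μ * frob hF s := by
      rw [hbdef, hlin, h_add_right hF, h_smul_right hF, hcc, hcz, zero_add, mul_one]
    have hb0 : b ≠ 0 := hb ▸ mul_ne_zero hμ0 ((map_ne_zero _).2 hs)
    have hbK : -b⁻¹ ∈ K := by
      refine K.neg_mem (K.inv_mem ((hfix b).1 ?_))
      rw [hb, map_mul, frob_frob hF]
      linear_combination s * hμ - μ * hskew
    obtain ⟨g, hg, eg⟩ := hK.smul hc'.2.2 hbK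
    have hm := hc.map hg
    have e : g.1 *ᵥ c = (-s) • z := by
      rw [eg, one_add_mulVec, ← hbdef, smul_smul, mul_neg, mul_inv_cancel₀ hb0]
      module
    rw [e] at hm
    obtain ⟨ζ, hζ⟩ := scale hm (-s)⁻¹ (inv_ne_zero (neg_ne_zero.2 hs))
    rw [smul_smul, inv_mul_cancel₀ (neg_ne_zero.2 hs), one_smul] at hζ
    exact hnz ⟨ζ, hζ⟩
  -- many centres
  have hx1 : ∀ r : K, Root P (Δ.ctr 1 + (r : F) • Δ.ctr 0)
      (Δ.axis 1 - ((r : F) * Δ.axis 1 ⬝ᵥ Δ.ctr 0) • Δ.axis 0) :=
    fun r => Δ.mem_shift hK hP (by decide) r.2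
  have hindep := Fintype.linearIndependent_iff.1 Δ.indep
  have hcoef : ∀ r : K, Δ.axis 2 ⬝ᵥ (Δ.ctr 1 + (r : F) • Δ.ctr 0) ≠ 0 := fun r e => by
    obtain ⟨⟨k, hk⟩, -⟩ := same_flag hK hP hL (Δ.root 2) (hx1 r) (Or.inl e)
    have := hindep ![(r : F), 1, -k] (by
      simp only [Fin.sum_univ_three, Matrix.cons_val_zero, Matrix.cons_val_one, Matrix.cons_val]
      rw [neg_smul, one_smul, add_comm ((r : F) • _) (Δ.ctr 1), hk, add_neg_cancel]) 1
    exact one_ne_zero this
  let pt : Option (K × K) → V := fun o => match o with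
    | none => Δ.ctr 2
    | some (r, t) => Δ.ctr 1 + (r : F) • Δ.ctr 0 +
        ((t : F) * Δ.axis 2 ⬝ᵥ (Δ.ctr 1 + (r : F) • Δ.ctr 0)) • Δ.ctr 2
  have hpt : ∀ o, ∃ γ, Root P (pt o) γ := by
    rintro (- | ⟨r, t⟩)
    · exact ⟨_, Δ.root 2⟩
    · obtain ⟨g, hg, eg⟩ := hK.smul (Δ.root 2).2.2 t.2
      have := (hx1 r).map hg
      rw [eg, one_add_mulVec, smul_smul, mul_comm] at this
      exact ⟨_, this⟩
  choose γ hγ using hpt
  have hdist : ∀ o o' (a : F), pt o = a • pt o' → o = o' := by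
    rintro (- | ⟨r, t⟩) (- | ⟨r', t'⟩) a he
    · rfl
    · exfalso
      have e1 := hindep ![-(a * r'), -a, 1 - a * ((t' : F) * Δ.axis 2 ⬝ᵥ (Δ.ctr 1 + (r' : F) • Δ.ctr 0))] (by
        simp only [Fin.sum_univ_three, Matrix.cons_val_zero, Matrix.cons_val_one, Matrix.cons_val]
        change Δ.ctr 2 = _ at he
        rw [← sub_eq_zero] at he
        simp only [pt] at he
        rw [← he]
        module)
      have h1 := e1 1
      have h2 := e1 2
      simp at h1 h2
      rw [h1, zero_mul, sub_zero] at h2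
      exact one_ne_zero h2
    · exfalso
      have e1 := hindep ![(r : F), 1, (t : F) * Δ.axis 2 ⬝ᵥ (Δ.ctr 1 + (r : F) • Δ.ctr 0) - a] (by
        simp only [Fin.sum_univ_three, Matrix.cons_val_zero, Matrix.cons_val_one, Matrix.cons_val]
        simp only [pt] at he
        rw [← sub_eq_zero] at he
        rw [← he]
        module)
      simpa using e1 1
    · have e1 := hindep ![(r : F) - a * r', 1 - a,
        (t : F) * Δ.axis 2 ⬝ᵥ (Δ.ctr 1 + (r : F) • Δ.ctr 0) -
          a * ((t' : F) * Δ.axis 2 ⬝ᵥ (Δ.ctr 1 + (r' : F) • Δ.ctr 0))] (by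
        simp only [Fin.sum_univ_three, Matrix.cons_val_zero, Matrix.cons_val_one, Matrix.cons_val]
        simp only [pt] at he
        rw [← sub_eq_zero] at he
        rw [← he]
        module)
      have h0 := e1 0
      have h1 := e1 1
      have h2 := e1 2
      simp only [Matrix.cons_val_zero, Matrix.cons_val_one, Matrix.cons_val, sub_eq_zero] at h0 h1 h2
      rw [← h1, one_mul] at h0 h2
      have hr : r = r' := Subtype.ext h0
      subst hr
      exact congrArg some (Prod.ext rfl (Subtype.ext (mul_right_cancel₀ (hcoef r) h2)))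
  -- a vector orthogonal to the given one
  obtain ⟨c0, γ0, hc0⟩ : ∃ c γ, Root P c γ := ⟨_, _, hx⟩
  have hb0 := hne hc0
  obtain ⟨v, hv⟩ : ∃ v : V,
      v - (Cfsg.hermForm 3 F q v z / Cfsg.hermForm 3 F q c0 z) • c0 ∉ Submodule.span F {z} := by
    by_contra h
    push Not at h
    have hle : (⊤ : Submodule F V) ≤ Submodule.span F (Set.range ![c0, z]) := by
      intro v _
      obtain ⟨k, hk⟩ := Submodule.mem_span_singleton.1 (h v)
      rw [eq_sub_iff_add_eq] at hk
      rw [← hk]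
      exact Submodule.add_mem _ (Submodule.smul_mem _ _ (Submodule.subset_span ⟨1, rfl⟩))
        (Submodule.smul_mem _ _ (Submodule.subset_span ⟨0, rfl⟩))
    have h3 := Submodule.finrank_mono hle
    have h2 : Set.finrank F (Set.range ![c0, z]) ≤ Fintype.card (Fin 2) := finrank_range_le_card _
    rw [finrank_top, Module.finrank_fintype_fun_eq_card, Fintype.card_fin] at h3
    rw [Fintype.card_fin, Set.finrank] at h2
    omega
  set nv := v - (Cfsg.hermForm 3 F q v z / Cfsg.hermForm 3 F q c0 z) • c0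
  have hnz' : Cfsg.hermForm 3 F q nv z = 0 := by
    rw [h_sub_left, h_smul_left, div_mul_cancel₀ _ hb0, sub_self]
  have hli : LinearIndependent F ![z, nv] := (LinearIndependent.pair_iff' hz0).2 fun t ht =>
    hv (ht ▸ Submodule.smul_mem _ t (Submodule.mem_span_singleton_self z))
  have hnv : ∀ o, Cfsg.hermForm 3 F q (pt o) z ≠ 0 := fun o => hne (hγ o)
  let Φ : Option (K × K) → F := fun o =>
    Cfsg.hermForm 3 F q ((Cfsg.hermForm 3 F q (pt o) z)⁻¹ • pt o) nv
  have hinj : Function.Injective Φ := by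
    intro o o' he
    set a := (Cfsg.hermForm 3 F q (pt o) z)⁻¹
    set a' := (Cfsg.hermForm 3 F q (pt o') z)⁻¹
    have ha : a ≠ 0 := inv_ne_zero (hnv o)
    have ha' : a' ≠ 0 := inv_ne_zero (hnv o')
    have e1 : Cfsg.hermForm 3 F q (a • pt o) z = 1 := by rw [h_smul_left, inv_mul_cancel₀ (hnv o)]
    have e1' : Cfsg.hermForm 3 F q (a' • pt o') z = 1 := by rw [h_smul_left, inv_mul_cancel₀ (hnv o')]
    obtain ⟨k, hk⟩ := prop_of_kills hli (dualVec_ne hF hz0) (by rw [dualVec_dot, hz])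
      (by rw [dualVec_dot, hnz']) (ψ := dualVec q (a' • pt o' - a • pt o))
      (by rw [dualVec_dot, h_sub_right hF, ← h_swap hF (a' • pt o'), ← h_swap hF (a • pt o), e1, e1', sub_self])
      (by rw [dualVec_dot, h_sub_right hF, ← h_swap hF (a' • pt o'), ← h_swap hF (a • pt o),
        show Cfsg.hermForm 3 F q (a • pt o) nv = Cfsg.hermForm 3 F q (a' • pt o') nv from he, sub_self])
    have hd := dualVec_smul_inj hF hk
    obtain ⟨g1, hg1⟩ := scale (hγ o) a ha
    obtain ⟨g2, hg2⟩ := scale (hγ o') a' ha'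
    rw [sub_eq_iff_eq_add, add_comm] at hd
    rw [hd] at hg2
    have hs := secant hg1 hg2 e1
    rw [hs, zero_smul, add_zero] at hd
    refine (hdist o' o (a'⁻¹ * a) ?_).symm
    rw [← smul_smul, ← hd, smul_smul, inv_mul_cancel₀ ha', one_smul]
  have := Nat.card_le_card_of_injective _ hinj
  rw [Nat.card_eq_fintype_card (α := F), hF, Finite.card_option, Nat.card_prod, hKq, sq] at this
  omega

include hF in
/-- The group contains the special unitary group. -/
theorem unitary_full (hq : 3 ≤ q) (hP : Core P) (hU : P ≤ Cfsg.GU 3 F q) {K : Subfield F}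
    (hK : RootField P K) (hL : OneAxis P) (hcard : q ^ 2 ≤ Nat.card K ^ 2) {x φ : Fin 3 → F}
    (hx : Root P x φ) : Cfsg.GU 3 F q ⊓ Cfsg.Geo.specialLinear (Fin 3) F ≤ P := by
  obtain ⟨-, hfix⟩ := roots_full hF hP hU hK hcard hx
  intro g hg
  let ι : Cfsg.SU 3 F q →* G3 := Matrix.SpecialLinearGroup.toGL.comp (Cfsg.SU 3 F q).subtype
  have hd : (g : M3).det = 1 := by simpa using congrArg Units.val (MonoidHom.mem_ker.1 hg.2)
  have hle : Subgroup.closure (UnitarySimple.TSet (F := F) (q := q) (n := 3)) ≤ P.comap ι := by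
    refine (Subgroup.closure_le _).2 ?_
    rintro A ⟨v, c, hv, hA⟩
    show ι A ∈ P
    rcases eq_or_ne v 0 with rfl | hv0
    · have : ι A = 1 := Units.ext (by
        show UnitarySimple.mat A = 1
        refine Matrix.ext_of_mulVec_single fun i => ?_
        rw [hA, UnitarySimple.tmat_zero, Matrix.one_mulVec])
      rw [this]; exact P.one_mem
    have hc : c + frob hF c = 0 := UnitarySimple.skew_of_tmat hF hv hv0 fun a b => by
      rw [← hA]; exact UnitarySimple.su_h A a b
    obtain ⟨ζ, hζ⟩ := centre_all hF hP hU hK hL hcard hx hv0 hv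
    obtain ⟨-, μ, hμ0, hμ, hlin⟩ := axis_of_gu hF hP hU hζ
    have hk : c / μ ∈ K := by
      refine (hfix _).1 ?_
      rw [map_div₀, show frob hF c = -c by linear_combination hc,
        show frob hF μ = -μ by linear_combination hμ, neg_div_neg_eq]
    obtain ⟨k, hk, ek⟩ := (mem_smul_iff (c / μ)).1 (hK.smul hζ.2.2 hk)
    convert hk using 1
    refine Units.ext ?_
    show UnitarySimple.mat A = k.1
    refine Matrix.ext_of_mulVec_single fun i => ?_
    rw [hA, tmat_mulVec, ek, one_add_mulVec, smul_dotProduct, hlin, smul_eq_mul, ← mul_assoc,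
      div_mul_cancel₀ _ hμ0]
  have h2 : ι ⟨⟨(g : M3), hd⟩, fun u v => hg.1 u v⟩ ∈ P :=
    hle (by rw [UnitarySimple.generated hF (by omega) (by omega)]; exact Subgroup.mem_top _)
  convert h2 using 1
  exact Units.ext rfl

end CfsgLib.ResThree.Tv
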