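import Cfsg.Agent.Lib.MaxSub.ResThree.Tv.Frame

/-!
All root groups have one size; when it is at least three they are one subfield and all products of
pairings lie in it.
-/

set_option autoImplicit false
set_option linter.unusedSectionVars false

namespace CfsgLib.ResThree.Tv

open Matrix

variable {F : Type*} [Field F] [Fintype F] (p : ℕ) [Fact p.Prime] [CharP F p]
variable {P : Subgroup (Matrix.GeneralLinearGroup (Fin 3) F)}

local notation "G3" => Matrix.GeneralLinearGroup (Fin 3) F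
local notation "V" => Fin 3 → F

/-- A transvection opposite to a given one, in the class of another. -/
theorem exists_opposite {c φ y ψ : Fin 3 → F} (hP : Core P) (hs : Root P c φ) (hr : Root P y ψ) :
    ∃ y' ψ' : Fin 3 → F, Root P y' ψ' ∧ rootSet P y' ψ' = rootSet P y ψ ∧
      φ ⬝ᵥ y' ≠ 0 ∧ ψ' ⬝ᵥ c ≠ 0 := by
  obtain ⟨g, hg, h1, h2⟩ := connected hP hs hr
  exact ⟨_, _, hr.map hg, rootSet_map hg, h1, h2⟩

include p in
/-- Opposite root groups have one size. -/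
theorem card_pair {c φ y ψ : Fin 3 → F} (hP : Core P) (hs : Root P c φ) (hr : Root P y ψ)
    (h3 : φ ⬝ᵥ y ≠ 0) (h4 : ψ ⬝ᵥ c ≠ 0) :
    Nat.card (rootSet P c φ) = Nat.card (rootSet P y ψ) := by
  have h1 := hs.2.2.dot hP
  have h2 := hr.2.2.dot hP
  have hpc := le_card_rootSet p hP hs
  have hpy := le_card_rootSet p hP hr
  have hp2 := (Fact.out : p.Prime).two_le
  rcases Nat.lt_or_ge (Nat.card (rootSet P c φ)) 3 with hc | hc
  · rcases Nat.lt_or_ge (Nat.card (rootSet P y ψ)) 3 with hy | hy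
    · omega
    · rcases pair_cases p hr hs h2 h1 h4 h3 hy with ⟨K, hK, -, hK', -⟩ | ⟨hp, hy', -⟩
      · rw [← hK, hK']; rfl
      · omega
  · rcases pair_cases p hs hr h1 h2 h3 h4 hc with ⟨K, hK, -, hK', -⟩ | ⟨hp, hc', -⟩
    · rw [← hK, hK']; rfl
    · rcases Nat.lt_or_ge (Nat.card (rootSet P y ψ)) 3 with hy | hy
      · omega
      · rcases pair_cases p hr hs h2 h1 h4 h3 hy with ⟨K, hK, -, hK', -⟩ | ⟨-, hy', -⟩
        · rw [← hK, hK']; rfl
        · omega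

include p in
/-- All root groups have one size. -/
theorem card_root_eq {c φ y ψ : Fin 3 → F} (hP : Core P) (hs : Root P c φ) (hr : Root P y ψ) :
    Nat.card (rootSet P c φ) = Nat.card (rootSet P y ψ) := by
  obtain ⟨y', ψ', hr', e, h3, h4⟩ := exists_opposite hP hs hr
  rw [card_pair p hP hs hr' h3 h4, e]

include p in
/-- The field of root parameters. -/
theorem exists_root_field {c₀ φ₀ : Fin 3 → F} (hP : Core P) (h₀ : Root P c₀ φ₀)
    (hQ : 3 ≤ Nat.card (rootSet P c₀ φ₀)) :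
    ∃ K : Subfield F, 3 ≤ Nat.card K ∧ (∀ c φ : Fin 3 → F, Root P c φ → rootSet P c φ = K) ∧
      ∀ c φ y ψ : Fin 3 → F, Mem P c φ → Mem P y ψ → φ ⬝ᵥ y * ψ ⬝ᵥ c ∈ K := by
  classical
  have hcard : ∀ {c φ : Fin 3 → F}, Root P c φ → Nat.card (rootSet P c φ) = Nat.card (rootSet P c₀ φ₀) :=
    fun h => card_root_eq p hP h h₀
  set N := Nat.card (rootSet P c₀ φ₀) with hN
  -- the prime field when it has three elements
  have prime3 : p = 3 → ∃ K : Subfield F, Nat.card K = 3 ∧ ∀ x, x ∈ K → ∃ n : ℕ, (n : F) = x := by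
    rintro rfl
    refine ⟨(ZMod.castHom (dvd_refl 3) F).fieldRange, ?_, ?_⟩
    · exact (Nat.card_congr (Equiv.ofInjective _ (ZMod.castHom (dvd_refl 3) F).injective)).symm.trans
        (Nat.card_zmod 3)
    · rintro x ⟨z, rfl⟩
      exact ⟨z.val, (map_natCast (ZMod.castHom (dvd_refl 3) F) z.val).symm.trans
        (by rw [ZMod.natCast_zmod_val])⟩
  obtain ⟨K, hK⟩ : ∃ K : Subfield F, Nat.card K = N := by
    obtain ⟨y, ψ, hy, -, h3, h4⟩ := exists_opposite hP h₀ h₀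
    rcases pair_cases p h₀ hy (h₀.2.2.dot hP) (hy.2.2.dot hP) h3 h4 hQ with ⟨K, hK, -⟩ | ⟨hp, hc, -⟩
    · exact ⟨K, hK⟩
    · obtain ⟨K, hK, -⟩ := prime3 hp
      exact ⟨K, hK.trans hc.symm⟩
  have huniq : ∀ {L : Subfield F}, Nat.card L = N → L = K := fun hL =>
    CfsgLib.PSL2Max.subfield_eq_of_card (hL.trans hK.symm)
  have hroots : ∀ c φ : Fin 3 → F, Root P c φ → rootSet P c φ = K := by
    intro c φ h
    obtain ⟨y, ψ, hy, -, h3, h4⟩ := exists_opposite hP h h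
    rcases pair_cases p h hy (h.2.2.dot hP) (hy.2.2.dot hP) h3 h4 ((hcard h).symm ▸ hQ) with
      ⟨L, hL, hL', -⟩ | ⟨hp, hc, -⟩
    · rw [hL', huniq (hL.trans (hcard h))]
    · obtain ⟨L, hL, hLn⟩ := prime3 hp
      rw [← huniq (hL.trans (hc.symm.trans (hcard h)))]
      refine (Set.eq_of_subset_of_ncard_le (fun x hx => ?_) ?_ (Set.toFinite _)).symm
      · obtain ⟨n, rfl⟩ := hLn x hx
        exact natCast_mem_rootSet hP h n
      · rw [← Nat.card_coe_set_eq, ← Nat.card_coe_set_eq, hc]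
        exact le_of_eq hL.symm
  have hpow : ∀ x : F, x ∈ K → x ^ N = x := fun x hx => by
    rwa [CfsgLib.PSL2Max.mem_subfield_iff, hK] at hx
  -- a product with square minus one outside the field does not occur
  have hbad : ∀ c φ y ψ : Fin 3 → F, Mem P c φ → Mem P y ψ → φ ⬝ᵥ y ≠ 0 → ψ ⬝ᵥ c ≠ 0 →
      φ ⬝ᵥ y * ψ ⬝ᵥ c ∈ K ∨ (p = 3 ∧ N = 3 ∧ (φ ⬝ᵥ y * ψ ⬝ᵥ c) ^ 2 = -1) := by
    intro c φ y ψ hc hy h3 h4
    have hc' : Root P c φ := ⟨fun e => h4 (by rw [e, dotProduct_zero]), fun e => h3 (by rw [e, zero_dotProduct]), hc⟩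
    have hy' : Root P y ψ := ⟨fun e => h3 (by rw [e, dotProduct_zero]), fun e => h4 (by rw [e, zero_dotProduct]), hy⟩
    rcases pair_cases p hc' hy' (hc.dot hP) (hy.dot hP) h3 h4 ((hcard hc').symm ▸ hQ) with
      ⟨L, hL, -, -, hu⟩ | ⟨hp, hq, hu⟩
    · exact Or.inl (huniq (hL.trans (hcard hc')) ▸ hu)
    · rcases hu with hu | hu | hu
      · exact Or.inl (hu ▸ K.one_mem)
      · exact Or.inl (hu ▸ K.neg_mem K.one_mem)
      · exact Or.inr ⟨hp, (hcard hc').symm.trans hq, hu⟩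
  refine ⟨K, hK ▸ hQ, hroots, fun c φ y ψ hc hy => ?_⟩
  by_cases h3 : φ ⬝ᵥ y = 0
  · rw [h3, zero_mul]; exact K.zero_mem
  by_cases h4 : ψ ⬝ᵥ c = 0
  · rw [h4, mul_zero]; exact K.zero_mem
  rcases hbad c φ y ψ hc hy h3 h4 with h | ⟨hp, hN3, hu⟩
  · exact h
  exfalso
  subst hp
  have h30 : (3 : F) = 0 := by exact_mod_cast CharP.cast_eq_zero F 3
  have hU : ∀ c φ y ψ : Fin 3 → F, Mem P c φ → Mem P y ψ →
      (φ ⬝ᵥ y * ψ ⬝ᵥ c) ^ 5 = φ ⬝ᵥ y * ψ ⬝ᵥ c := by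
    intro c φ y ψ hc hy
    by_cases h3 : φ ⬝ᵥ y = 0
    · simp [h3]
    by_cases h4 : ψ ⬝ᵥ c = 0
    · simp [h4]
    rcases hbad c φ y ψ hc hy h3 h4 with h | ⟨-, -, h⟩
    · have := hpow _ h
      rw [hN3] at this
      rw [show 5 = 3 + 2 from rfl, pow_add, this, ← pow_succ', this]
    · rw [show 5 = 2 + 2 + 1 from rfl, pow_succ, pow_add, h]
      ring
  refine bad_pair hP h30 hU hc (y := (φ ⬝ᵥ y)⁻¹ • y) (ψ := (φ ⬝ᵥ y) • ψ) ?_ ?_ ?_ hu
  · rw [mem_smul_iff, smul_smul, inv_mul_cancel₀ h3, one_smul]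
    exact hy
  · rw [dotProduct_smul, smul_eq_mul, inv_mul_cancel₀ h3]
  · rw [smul_dotProduct, smul_eq_mul]

end CfsgLib.ResThree.Tv
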